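import Cfsg.Agent.StemCert.Count
import Cfsg.Agent.StemCert.MultiPacked
import Cfsg.Agent.OrthMult.EightTwoData

/-! Checks of the multiplier certificate of the orthogonal group on the 120 nonsingular vectors. -/

set_option autoImplicit false
set_option maxHeartbeats 0
set_option maxRecDepth 100000
set_option Elab.async false

namespace Cfsg.Agent.OrthMult.EightTwo

open Cfsg.Agent.Compute Cfsg.Agent.StemCert

theorem shape_ok : cert.D.length = 6 ∧ cert.md = 174182400 ∧ numForms cert.D = 174182400 := by decide +kernel
theorem wf_ok : wfB cert.D = true := by decide +kernel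
theorem top_ok : cert.topOK 7 = true := by decide +kernel
theorem rel_ok : allBelow cert.nRel cert.relOK = true := by decide +kernel
theorem pow_ok : allBelow 7 cert.powOK = true := by decide +kernel
theorem commData_ok : allBelow 7 cert.commOK = true := by decide +kernel
theorem pv_ok : allBelow 6 (cert.pvOK pvs) = true := by decide +kernel
theorem lv0_0 : allBelow (lvAt cert.D 0).size (cert.entP pvs 0 0) = true := by decide +kernel
theorem lv0_1 : allBelow (lvAt cert.D 0).size (cert.entP pvs 0 1) = true := by decide +kernel
theorem lv0_2 : allBelow (lvAt cert.D 0).size (cert.entP pvs 0 2) = true := by decide +kernel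
theorem lv0_3 : allBelow (lvAt cert.D 0).size (cert.entP pvs 0 3) = true := by decide +kernel
theorem lv0_4 : allBelow (lvAt cert.D 0).size (cert.entP pvs 0 4) = true := by decide +kernel
theorem lv0_5 : allBelow (lvAt cert.D 0).size (cert.entP pvs 0 5) = true := by decide +kernel
theorem lv0_6 : allBelow (lvAt cert.D 0).size (cert.entP pvs 0 6) = true := by decide +kernel

theorem lv0_gens : (lvAt cert.D 0).gens = [0, 1, 2, 3, 4, 5, 6] := rfl

theorem lv0_ok : cert.lvP pvs 0 = true := lvP_of_gens cert fun s hs => by
  rw [lv0_gens] at hs
  simp only [List.mem_cons, List.not_mem_nil, or_false] at hs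
  rcases hs with rfl | rfl | rfl | rfl | rfl | rfl | rfl
  exacts [lv0_0, lv0_1, lv0_2, lv0_3, lv0_4, lv0_5, lv0_6]

theorem lv1_ok : cert.lvP pvs 1 = true := by decide +kernel
theorem lv2_ok : cert.lvP pvs 2 = true := by decide +kernel
theorem lv3_ok : cert.lvP pvs 3 = true := by decide +kernel
theorem lv4_ok : cert.lvP pvs 4 = true := by decide +kernel
theorem lv5_ok : cert.lvP pvs 5 = true := by decide +kernel

theorem row_ok : allB cert.rowOK cert.rows = true := by decide +kernel
theorem bound_ok : multi.boundP cert rowVals vecVals = true := by decide +kernel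
theorem rowsP_ok : cert.rowsP pvs cert.rows rowVals = true := by decide +kernel
theorem basis_ok : allBelow cert.dim (multi.basisP cert rowVals vecVals) = true := by decide +kernel
theorem order_ok : allBelow multi.ords.length (multi.ordP cert rowVals vecVals) = true := by decide +kernel
theorem below_ok : gensBelow 7 cert.D = true := by decide +kernel
theorem blt_ok : allB (fun b => Nat.blt b 120) base = true := by decide +kernel
theorem distinct_ok : distinctB 7 codes cert.D base = true := by decide +kernel
theorem table_ok : allBelow 6 (cert.tableAt 7 codes base) = true := by decide +kernel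
theorem comm_ok : allBelow 7 (cert.commAt 7 codes base) = true := by decide +kernel

theorem pvs_ok : ∀ i < cert.D.length, cert.pvOK pvs i = true := fun i hi =>
  allBelow_eq_true.mp pv_ok i (shape_ok.1 ▸ hi)

theorem bound_spec : 0 < cert.md ∧ pcongL cert.md cert.dim rowVals multi.rowVals = true ∧
    2 * cert.md < fieldMod := by
  obtain ⟨h1, h2, -, -, h5, -⟩ := Multi.boundP_spec cert multi bound_ok
  exact ⟨h1, h2, h5⟩

theorem checked : multi.Checked cert 7 where
  wf := wf_ok
  top := top_ok
  rel := rel_ok
  pow := pow_ok
  comm := commData_ok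
  lv := fun i hi => by
    rw [shape_ok.1] at hi
    interval_cases i
    all_goals apply lvOK_of_lvP cert bound_spec.1 pvs_ok
    exacts [lv0_ok, lv1_ok, lv2_ok, lv3_ok, lv4_ok, lv5_ok]
  row := row_ok
  rows := rowsV_of_rowsP cert bound_spec.1 bound_spec.2.2 pvs_ok cert.rows rowVals multi.rowVals
    rowsP_ok bound_spec.2.1
  len := rfl
  basis := allBelow_eq_true.mpr fun j hj =>
    Multi.basisOK_of_basisP cert multi bound_ok (allBelow_eq_true.mp basis_ok j hj)
  order := allBelow_eq_true.mpr fun j hj =>
    Multi.ordOK_of_ordP cert multi bound_ok (allBelow_eq_true.mp order_ok j hj)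

end Cfsg.Agent.OrthMult.EightTwo
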