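import Cfsg.Agent.OrthMult.EightTwoChain
import Cfsg.Agent.OrthMult.EightTwoCheck
import Cfsg.Agent.StemCert.Count
import Cfsg.Agent.Classical.OrthBlocks
import Cfsg.Agent.Classical.OrthPOmega
import Cfsg.Agent.S0293
import Cfsg.Prelude.Def_KGroupFacts

/-!
The Schur multiplier of the eight-dimensional orthogonal group of plus type over two elements is the
four-group: a certificate on the 120 nonsingular vectors bounds every stem extension, and a cover
permutes two sheets over two copies of these vectors, related by triality.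
-/

set_option autoImplicit false
set_option maxHeartbeats 2000000
set_option maxRecDepth 100000

universe u

namespace Cfsg.Agent.OrthMult.EightTwo

open Cfsg Cfsg.Agent.Compute Cfsg.Agent.StemCert Cfsg.Agent.StemCert.CyclicSheets
  Cfsg.Agent.Classical.Quad QuadraticMap Matrix Module
open scoped commutatorElement

/-- The quadratic form on codes. -/
def qB (x : ℕ) : Bool :=
  ((x.testBit 0 && x.testBit 4) ^^ (x.testBit 1 && x.testBit 5)) ^^
    ((x.testBit 2 && x.testBit 6) ^^ (x.testBit 3 && x.testBit 7))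

/-- The polar form on codes. -/
def bB (x v : ℕ) : Bool := (qB (Nat.xor x v) ^^ qB x) ^^ qB v

/-- A transvection on codes. -/
noncomputable def tvImg (v x : ℕ) : ℕ := Nat.xor x (cond (bB x v) v 0)

/-- A product of transvections on codes. -/
noncomputable def tvApp (wd : List ℕ) (x : ℕ) : ℕ :=
  List.rec (motive := fun _ => ℕ) x (fun v _ y => tvImg v y) wd

theorem gens_ok : allBelow 7 (fun s =>
    allB (fun v => qB v && Nat.blt v 256) (tvWords.getD s []) &&
    Nat.beq (Nat.mod (List.length (tvWords.getD s [])) 2) 0 &&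
    allBelow 120 fun p => Nat.blt (getField 7 (codes.getD s 0) p) 120 &&
      Nat.beq (tvApp (tvWords.getD s []) (getField 8 ptsCode p))
        (getField 8 ptsCode (getField 7 (codes.getD s 0) p))) = true := by decide +kernel

theorem pts_ok : allBelow 120 (fun p => qB (getField 8 ptsCode p) &&
    Nat.beq (getField 7 posCode (getField 8 ptsCode p)) p) = true := by decide +kernel

theorem pos_ok : allBelow 256 (fun c => !qB c || (Nat.blt (getField 7 posCode c) 120 &&
    Nat.beq (getField 8 ptsCode (getField 7 posCode c)) c)) = true := by decide +kernel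

theorem span_ok : allBelow 256 (fun c =>
    !(allBelow 120 fun a => !qB (Nat.xor c (getField 8 ptsCode a)))) = true := by decide +kernel

/-- The code of a product of commutators of lifts. -/
noncomputable def commCode (l : List (ℕ × ℕ)) : ℕ :=
  List.rec (motive := fun _ => ℕ) (cId 9 2 240)
    (fun p _ r => cMul 9 2 240
      (cMul 9 2 240 (cMul 9 2 240 (cMul 9 2 240 (lifts.getD p.1 0) (lifts.getD p.2 0))
        (liftInvs.getD p.1 0)) (liftInvs.getD p.2 0)) r) l

/-- The flip of one half. -/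
noncomputable def flipCode (r : ℕ) : ℕ := cond (Nat.beq r 0) flipA flipB

/-- The pairs of one flip. -/
noncomputable def flipPairs (r : ℕ) : List (ℕ × ℕ) := cond (Nat.beq r 0) pairsA pairsB

theorem cover_codes : allBelow 7 (fun s => memB (lifts.getD s 0) (topGens coverChain) &&
    cOkB 9 2 240 (lifts.getD s 0) && cOkB 9 2 240 (liftInvs.getD s 0) &&
    Nat.beq (cMul 9 2 240 (liftInvs.getD s 0) (lifts.getD s 0)) (cId 9 2 240) &&
    allBelow 240 (fun x => Nat.beq (Nat.div (cAct 9 2 (lifts.getD s 0) x) 2)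
      (getField 7 (codes.getD s 0) (Nat.div x 2)))) = true := by decide +kernel

theorem cent_codes : allBelow 2 (fun r => cOkB 9 2 240 (flipCode r) &&
    allB (fun p => Nat.blt p.1 7 && Nat.blt p.2 7) (flipPairs r) &&
    Nat.beq (commCode (flipPairs r)) (flipCode r) &&
    Nat.beq (cMul 9 2 240 (flipCode r) (flipCode r)) (cId 9 2 240) &&
    Nat.beq (cAct 9 2 (flipCode r) 0) (Nat.sub 1 r) &&
    Nat.beq (cAct 9 2 (flipCode r) 240) (Nat.add 240 r) &&
    allBelow 7 (fun s => Nat.beq (cMul 9 2 240 (lifts.getD s 0) (flipCode r))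
      (cMul 9 2 240 (flipCode r) (lifts.getD s 0))) &&
    allBelow 240 (fun x => Nat.beq (Nat.div (cAct 9 2 (flipCode r) x) 2) (Nat.div x 2))) = true := by
  decide +kernel

attribute [local irreducible] cMul cId lifts liftInvs flipA flipB coverChain codes pairsA pairsB
  ptsCode posCode tvWords flipCode flipPairs

section Field

variable {F : Type u} [Field F] [Fintype F] (hF : Fintype.card F = 2)

/-- A bit as a field element. -/
def bitF (F : Type u) [Field F] (b : Bool) : F := cond b 1 0

omit [Fintype F] in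
theorem bitF_injective : Function.Injective (bitF F) := by
  intro a b h
  cases a <;> cases b <;> simp [bitF] at h ⊢

omit [Fintype F] in
theorem bitF_and (a b : Bool) : bitF F (a && b) = bitF F a * bitF F b := by
  cases a <;> cases b <;> simp [bitF]

include hF in
theorem two_eq_zero : (1 : F) + 1 = 0 := by
  classical
  by_contra h
  have : ({0, 1, 1 + 1} : Finset F).card ≤ 2 := hF ▸ Finset.card_le_univ _
  rw [Finset.card_insert_of_notMem, Finset.card_pair] at this
  · omega
  · intro e
    exact one_ne_zero (α := F) (by linear_combination -e)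
  · simp [Ne.symm h]

include hF in
theorem bitF_xor (a b : Bool) : bitF F (a ^^ b) = bitF F a + bitF F b := by
  cases a <;> cases b <;> simp [bitF, two_eq_zero hF]

include hF in
theorem neg_eq_self (a : F) : -a = a := by
  have h := two_eq_zero hF
  linear_combination (-a) * h

/-- The vector of a code. -/
def decode (F : Type u) [Field F] (x : ℕ) : Fin 4 ⊕ Fin 4 → F :=
  Sum.elim (fun i => bitF F (x.testBit i)) (fun i => bitF F (x.testBit (4 + i)))

include hF in
theorem decode_xor (x y : ℕ) : decode F (Nat.xor x y) = decode F x + decode F y := by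
  show decode F (x ^^^ y) = _
  funext i
  rcases i with i | i <;> simp [decode, Nat.testBit_xor, bitF_xor hF]

/-- The quadratic form. -/
noncomputable abbrev Q (F : Type u) [Field F] : QuadraticForm F (Fin 4 ⊕ Fin 4 → F) := plusQ F 4

include hF in
theorem Q_decode (x : ℕ) : Q F (decode F x) = bitF F (qB x) := by
  rw [plusQ_apply, Fin.sum_univ_four, qB]
  simp only [bitF_xor hF, bitF_and, decode, Sum.elim_inl, Sum.elim_inr]
  norm_num
  ring

include hF in
theorem polar_decode (x v : ℕ) : polar (Q F) (decode F x) (decode F v) = bitF F (bB x v) := by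
  rw [polar, ← decode_xor hF, Q_decode hF, Q_decode hF, Q_decode hF, bB, bitF_xor hF, bitF_xor hF]
  simp only [sub_eq_add_neg, neg_eq_self hF]

omit [Fintype F] in
theorem decode_injOn {x y : ℕ} (hx : x < 256) (hy : y < 256) (h : decode F x = decode F y) : x = y := by
  refine Nat.eq_of_testBit_eq fun i => ?_
  rcases Nat.lt_or_ge i 8 with hi | hi
  · rcases Nat.lt_or_ge i 4 with h3 | h3
    · exact bitF_injective (congrFun h (Sum.inl ⟨i, h3⟩))
    · have e := congrFun h (Sum.inr ⟨i - 4, by omega⟩)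
      simp only [decode, Sum.elim_inr, show 4 + (i - 4) = i by omega] at e
      exact bitF_injective e
  · have hp : 2 ^ 8 ≤ 2 ^ i := Nat.pow_le_pow_right (by norm_num) hi
    rw [Nat.testBit_lt_two_pow (lt_of_lt_of_le hx hp), Nat.testBit_lt_two_pow (lt_of_lt_of_le hy hp)]

include hF in
theorem decode_surjective (v : Fin 4 ⊕ Fin 4 → F) : ∃ c, c < 256 ∧ decode F c = v := by
  classical
  have hb : Function.Bijective (fun c : Fin 256 => decode F c) := by
    rw [Fintype.bijective_iff_injective_and_card]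
    exact ⟨fun a b h => Fin.ext (decode_injOn a.2 b.2 h), by simp [hF]⟩
  obtain ⟨c, hc⟩ := hb.2 v
  exact ⟨c, c.2, hc⟩

include hF in
theorem Q_decode_ne {c : ℕ} : Q F (decode F c) ≠ 0 ↔ qB c = true := by
  rw [Q_decode hF]
  cases qB c <;> simp [bitF]

theorem pts_spec (p : Fin 120) :
    qB (getField 8 ptsCode p) = true ∧ getField 7 posCode (getField 8 ptsCode p) = p := by
  simpa [Nat.beq_eq] using allBelow_eq_true.mp pts_ok p p.2

theorem pos_spec {c : ℕ} (hc : c < 256) (hq : qB c = true) :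
    getField 7 posCode c < 120 ∧ getField 8 ptsCode (getField 7 posCode c) = c := by
  simpa [Nat.beq_eq, Nat.blt_eq, hq] using allBelow_eq_true.mp pos_ok c hc

/-- The nonsingular vectors. -/
abbrev NS (F : Type u) [Field F] : Type u := {v : Fin 4 ⊕ Fin 4 → F // Q F v ≠ 0}

/-- The numbering of the nonsingular vectors. -/
noncomputable def ev : Fin 120 ≃ NS F :=
  Equiv.ofBijective (fun p => ⟨decode F (getField 8 ptsCode p), (Q_decode_ne hF).2 (pts_spec p).1⟩) (by
    refine ⟨fun p q h => Fin.ext ?_, fun v => ?_⟩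
    · have := decode_injOn (getField_lt 8 _ _) (getField_lt 8 _ _) (congrArg Subtype.val h)
      rw [← (pts_spec p).2, ← (pts_spec q).2, this]
    · obtain ⟨c, hc, e⟩ := decode_surjective hF v.1
      obtain ⟨h1, h2⟩ := pos_spec hc ((Q_decode_ne hF).1 (by rw [e]; exact v.2))
      exact ⟨⟨_, h1⟩, Subtype.ext (by show decode F _ = v.1; rw [h2, e])⟩)

/-- The action on nonsingular vectors. -/
noncomputable def actV : oG (Q F) →* Equiv.Perm (NS F) :=
  MonoidHom.mk' (fun g => Equiv.Perm.subtypePerm g.1.toEquiv (fun v => by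
      show Q F (g.1 v) ≠ 0 ↔ _
      rw [g.2 v]))
    (fun A B => Equiv.ext fun v => Subtype.ext rfl)

/-- The action on the 120 points. -/
noncomputable def ι : eo (Q F) →* Equiv.Perm (Fin 120) :=
  (((ev hF).symm.permCongrHom).toMonoidHom.comp actV).comp (eo (Q F)).subtype

theorem ι_apply (g : eo (Q F)) (p : Fin 120) :
    decode F (getField 8 ptsCode (ι hF g p)) = g.1.1 (decode F (getField 8 ptsCode p)) := by
  show ((ev hF) ((ev hF).symm.permCongr (actV g.1) p)).1 = _
  rw [Equiv.permCongr_apply, Equiv.symm_symm, Equiv.apply_symm_apply]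
  rfl

theorem ι_injective : Function.Injective (ι hF) := by
  intro g h e
  have key : ∀ p : Fin 120, g.1.1 (decode F (getField 8 ptsCode p)) = h.1.1 (decode F (getField 8 ptsCode p)) :=
    fun p => by rw [← ι_apply hF, ← ι_apply hF, e]
  refine Subtype.ext (ext_oG fun x => ?_)
  obtain ⟨c, hc, rfl⟩ := decode_surjective hF x
  have hs := allBelow_eq_true.mp span_ok c hc
  simp only [Bool.not_eq_true', ← Bool.not_eq_true, allBelow_eq_true] at hs
  push Not at hs
  obtain ⟨a, ha, hqa⟩ := hs
  obtain ⟨h1, h2⟩ := pos_spec (Nat.xor_lt_two_pow (n := 8) hc (getField_lt 8 _ _)) hqa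
  have e1 := key ⟨_, h1⟩
  simp only [h2] at e1
  rw [show decode F (c ^^^ getField 8 ptsCode a) = _ from decode_xor hF c _, map_add, map_add,
    key ⟨a, ha⟩] at e1
  exact add_right_cancel e1

open scoped _root_.Classical in
/-- A transvection of a code. -/
noncomputable def tvec (F : Type u) [Field F] (v : ℕ) : oG (Q F) :=
  if h : Q F (decode F v) ≠ 0 then rO h else 1

include hF in
theorem tvec_apply {v : ℕ} (hv : qB v = true) (x : ℕ) :
    (tvec F v).1 (decode F x) = decode F (tvImg v x) := by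
  rw [tvec, dif_pos ((Q_decode_ne hF).2 hv), rO_apply, polar_decode hF, Q_decode hF, hv,
    sub_eq_add_neg, ← neg_smul, neg_eq_self hF, tvImg, decode_xor hF]
  have h0 : decode F 0 = 0 := by funext i; rcases i with i | i <;> simp [decode, bitF]
  cases bB x v <;> simp [bitF, h0]

include hF in
theorem evalW_apply : ∀ wd : List ℕ, (∀ v ∈ wd, qB v = true) → ∀ x : ℕ,
    (evalW (tvec F) wd).1 (decode F x) = decode F (tvApp wd x)
  | [], _, x => by simp [evalW, tvApp]
  | v :: wd, h, x => by
    rw [evalW_cons, oG_mul_apply, evalW_apply wd (fun s hs => h s (by simp [hs])) x,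
      tvec_apply hF (h v (by simp))]
    rfl

include hF in
theorem evalW_mem : ∀ wd : List ℕ, (∀ v ∈ wd, qB v = true) → wd.length % 2 = 0 →
    evalW (tvec F) wd ∈ eo (Q F)
  | [], _, _ => by simp [evalW]
  | [_], _, h => by simp at h
  | v :: w :: wd, h, hl => by
    rw [evalW_cons, evalW_cons, ← mul_assoc]
    refine mul_mem ?_ (evalW_mem wd (fun s hs => h s (by simp [hs]))
      (by simp only [List.length_cons] at hl; omega))
    have hv := (Q_decode_ne hF).2 (h v (by simp))
    have hw := (Q_decode_ne hF).2 (h w (by simp))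
    rw [eo_eq_commutator nondeg_plusQ (by simp) (Or.inr (by simp)), tvec, dif_pos hv, tvec, dif_pos hw]
    refine rO_mul_mem_commutator nondeg_plusQ hv hw (t := 1) ?_
    rw [Q_decode hF, Q_decode hF, h v (by simp), h w (by simp)]
    simp [bitF]

open scoped _root_.Classical in
/-- The generators. -/
noncomputable def gen (F : Type u) [Field F] (s : ℕ) : eo (Q F) :=
  if h : s < 7 ∧ evalW (tvec F) (tvWords.getD s []) ∈ eo (Q F) then ⟨_, h.2⟩ else 1

theorem gen_coded : Coded (w := 7) (k := 7) (ι hF) (gen F) codes := by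
  intro s hs p
  have h := allBelow_eq_true.mp gens_ok s hs
  simp only [Bool.and_eq_true, allBelow_eq_true, Nat.beq_eq, Nat.blt_eq] at h
  obtain ⟨⟨hwd, hlen⟩, hp⟩ := h
  obtain ⟨hlt, he⟩ := hp p p.2
  have hwd' : ∀ v ∈ tvWords.getD s [], qB v = true := fun v hv => by
    have := allB_spec hwd v hv
    simp only [Bool.and_eq_true] at this
    exact this.1
  have e := ι_apply hF (gen F s) p
  rw [gen, dif_pos ⟨hs, evalW_mem hF _ hwd' hlen⟩] at e ⊢
  rw [evalW_apply hF _ hwd', he] at e
  have h2 := congrArg (getField 7 posCode) (decode_injOn (getField_lt 8 _ _) (getField_lt 8 _ _) e)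
  rw [(pts_spec _).2, show getField 7 posCode (getField 8 ptsCode (getField 7 (codes.getD s 0) p)) =
    getField 7 (codes.getD s 0) p from (pts_spec ⟨_, hlt⟩).2] at h2
  exact h2

omit [Fintype F] in
theorem finrank_eight : finrank F (Fin 4 ⊕ Fin 4 → F) = 8 := by simp

include hF in
theorem center_omega : Subgroup.center (Cfsg.Omega F ⇑(Q F)) = ⊥ := by
  refine Subgroup.eq_bot_of_card_eq _ ((card_center_omega nondeg_plusQ (by rw [finrank_eight]; norm_num)).2
    (Or.inr ?_))
  have := two_eq_zero hF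
  rwa [one_add_one_eq_two] at this

/-- The orthogonal group over a finite field is finite. -/
noncomputable instance finiteOG : Finite (oG (Q F)) :=
  Finite.of_injective (fun g : oG (Q F) => (g.1 : (Fin 4 ⊕ Fin 4 → F) → (Fin 4 ⊕ Fin 4 → F)))
    fun _ _ h => ext_oG fun x => congrFun h x

/-- The simple group as the group generated by Siegel transformations. -/
noncomputable def pomegaEquiv : eo (Q F) ≃* Cfsg.POmega F ⇑(Q F) :=
  (omegaEquiv nondeg_plusQ (by rw [finrank_eight]; norm_num)).symm.trans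
    (QuotientGroup.quotientBot.symm.trans (QuotientGroup.quotientMulEquivOfEq (center_omega hF).symm))

include hF in
theorem card_group : Nat.card (eo (Q F)) = 174182400 := by
  rw [Nat.card_congr (pomegaEquiv hF).toEquiv]
  have h := Cfsg.Agent.S0293.result (F := F) hF 4 le_rfl
  rw [← coe_plusQ] at h
  norm_num [Finset.prod_range_succ] at h
  omega

theorem hlt : ∀ b ∈ base, b < 120 := fun b hb => by simpa [Nat.blt_eq] using allB_spec blt_ok b hb

include hF in
theorem gen_generates (x : eo (Q F)) : x ∈ Submonoid.closure (gen F '' {s | s < 7}) :=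
  generates_of_card (gen_coded hF) wf_ok below_ok hlt distinct_ok
    (shape_ok.2.2.trans (card_group hF).symm) x

end Field

/-- The homomorphism from a cyclic group given by an element. -/
noncomputable def zmodHom {A : Type*} [CommGroup A] (n : ℕ) (a : A) (h : a ^ n = 1) :
    Multiplicative (ZMod n) →* A :=
  AddMonoidHom.toMultiplicativeLeft (ZMod.lift n
    ⟨zmultiplesHom (Additive A) (Additive.ofMul a), by
      simp only [zmultiplesHom_apply, natCast_zsmul]
      exact congrArg Additive.ofMul h⟩)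

theorem zmodHom_apply {A : Type*} [CommGroup A] (n : ℕ) (a : A) (h : a ^ n = 1) (z : ℤ) :
    zmodHom n a h (Multiplicative.ofAdd (z : ZMod n)) = a ^ z := by
  show Additive.toMul (ZMod.lift n _ (z : ZMod n)) = _
  rw [ZMod.lift_coe]
  rfl

/-- The homomorphism from the four-group given by two commuting involutions. -/
noncomputable def pairHom {A : Type*} [CommGroup A] (a b : A) (ha : a ^ 2 = 1) (hb : b ^ 2 = 1) :
    Multiplicative (ZMod 2 × ZMod 2) →* A :=
  ((zmodHom 2 a ha).comp (AddMonoidHom.toMultiplicative (AddMonoidHom.fst (ZMod 2) (ZMod 2)))) *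
    ((zmodHom 2 b hb).comp (AddMonoidHom.toMultiplicative (AddMonoidHom.snd (ZMod 2) (ZMod 2))))

theorem pairHom_apply {A : Type*} [CommGroup A] (a b : A) (ha : a ^ 2 = 1) (hb : b ^ 2 = 1) (x y : ℤ) :
    pairHom a b ha hb (Multiplicative.ofAdd ((x : ZMod 2), (y : ZMod 2))) = a ^ x * b ^ y := by
  rw [← zmodHom_apply 2 a ha, ← zmodHom_apply 2 b hb]
  rfl

theorem rep_mul (a b : ℕ) : rep2s.mul a b = cMul 9 2 240 a b := by
  unfold rep2s sheetRep
  with_reducible rfl

theorem rep_one : rep2s.one = cId 9 2 240 := by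
  unfold rep2s sheetRep
  with_reducible rfl

theorem act2s {c : ℕ} (hc : rep2s.Ok c) (x : Fin 480) :
    ((rep2s.den c x : Fin 480) : ℕ) = cAct 9 2 c x :=
  cDen_apply (w := 9) (m := 2) (n := 240) (N := 480) (hm := by norm_num) (hN := rfl) hc x

theorem lift_spec {s : ℕ} (hs : s < 7) :
    lifts.getD s 0 ∈ topGens coverChain ∧ rep2s.Ok (lifts.getD s 0) ∧
    (rep2s.Ok (liftInvs.getD s 0) ∧
      rep2s.den (liftInvs.getD s 0) = (rep2s.den (lifts.getD s 0))⁻¹) ∧
    ∀ x < 240, cAct 9 2 (lifts.getD s 0) x / 2 = getField 7 (codes.getD s 0) (x / 2) := by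
  have h := allBelow_eq_true.mp cover_codes s hs
  simp only [Bool.and_eq_true, allBelow_eq_true, Nat.beq_eq, memB_eq_true] at h
  obtain ⟨⟨⟨⟨hm, hok⟩, hoki⟩, hinv⟩, hq⟩ := h
  have ho := rep2s.okb_sound _ hok
  have hoi := rep2s.okb_sound _ hoki
  refine ⟨hm, ho, ⟨hoi, eq_inv_of_mul_eq_one_left ?_⟩, hq⟩
  rw [← rep2s.den_mul _ _ hoi ho, rep_mul, hinv, ← rep_one]
  exact rep2s.den_one

theorem cent_spec {r : ℕ} (hr : r < 2) :
    rep2s.Ok (flipCode r) ∧
    (∀ p ∈ flipPairs r, p.1 < 7 ∧ p.2 < 7) ∧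
    commCode (flipPairs r) = flipCode r ∧
    rep2s.den (flipCode r) ^ 2 = 1 ∧
    cAct 9 2 (flipCode r) 0 = 1 - r ∧
    cAct 9 2 (flipCode r) 240 = 240 + r ∧
    (∀ x < 240, cAct 9 2 (flipCode r) x / 2 = x / 2) ∧
    ∀ s < 7, rep2s.den (lifts.getD s 0) * rep2s.den (flipCode r) =
      rep2s.den (flipCode r) * rep2s.den (lifts.getD s 0) := by
  have h := allBelow_eq_true.mp cent_codes r hr
  simp only [Bool.and_eq_true, allBelow_eq_true, Nat.beq_eq] at h
  obtain ⟨⟨⟨⟨⟨⟨⟨hok, hp⟩, hc⟩, hsq⟩, h0⟩, h240⟩, hcomm⟩, hfix⟩ := h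
  have ho := rep2s.okb_sound _ hok
  refine ⟨ho, fun p hp' => by simpa [Nat.blt_eq] using allB_spec hp p hp', hc, ?_, h0, h240, hfix,
    fun s hs => ?_⟩
  · rw [pow_two, ← rep2s.den_mul _ _ ho ho, rep_mul, hsq, ← rep_one, rep2s.den_one]
  · obtain ⟨-, hl, -, -⟩ := lift_spec hs
    rw [← rep2s.den_mul _ _ hl ho, ← rep2s.den_mul _ _ ho hl, rep_mul, rep_mul, hcomm s hs]

theorem cent_free {a b : ℕ} (ha : a < 2) (hb : b < 2)
    (h : rep2s.den (flipCode 0) ^ a * rep2s.den (flipCode 1) ^ b = 1) : a = 0 ∧ b = 0 := by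
  obtain ⟨o0, -, -, -, p0, q0, -, -⟩ := cent_spec (r := 0) (by norm_num)
  obtain ⟨o1, -, -, -, p1, q1, -, -⟩ := cent_spec (r := 1) (by norm_num)
  have hx : rep2s.den (flipCode 1) ⟨0, by norm_num⟩ = ⟨0, by norm_num⟩ :=
    Fin.ext ((act2s o1 _).trans p1)
  have e := congrArg (fun σ : Equiv.Perm (Fin 480) => (σ ⟨0, by norm_num⟩ : ℕ)) h
  have e' := congrArg (fun σ : Equiv.Perm (Fin 480) => (σ ⟨240, by norm_num⟩ : ℕ)) h
  interval_cases a <;> interval_cases b <;>
    simp only [pow_zero, pow_one, one_mul, mul_one, Equiv.Perm.mul_apply, Equiv.Perm.one_apply, hx,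
      act2s o0, act2s o1, p0, q1] at e e'
  · exact ⟨rfl, rfl⟩
  all_goals omega

section Cover

variable {F : Type u} [Field F] [Fintype F]

/-- The cover, inside the product with the permutations of 480 points. -/
noncomputable def cover (F : Type u) [Field F] : Subgroup (eo (Q F) × Equiv.Perm (Fin 480)) :=
  Subgroup.closure ((fun s => (gen F s, rep2s.den (lifts.getD s 0))) '' {s | s < 7})

/-- The lifted generators. -/
noncomputable def lift (F : Type u) [Field F] (s : ℕ) : cover F :=
  if hs : s < 7 then ⟨(gen F s, rep2s.den (lifts.getD s 0)), Subgroup.subset_closure ⟨s, hs, rfl⟩⟩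
  else 1

omit [Fintype F] in
theorem lift_val {s : ℕ} (hs : s < 7) :
    (lift F s).1 = (gen F s, rep2s.den (lifts.getD s 0)) := by
  simp only [lift, dif_pos hs]

/-- The covering map. -/
noncomputable def proj (F : Type u) [Field F] : cover F →* eo (Q F) :=
  (MonoidHom.fst _ _).comp (cover F).subtype

omit [Fintype F] in
theorem commCode_spec : ∀ l : List (ℕ × ℕ), (∀ p ∈ l, p.1 < 7 ∧ p.2 < 7) →
    rep2s.Ok (commCode l) ∧ rep2s.den (commCode l) = (commProd (lift F) l).1.2
  | [], _ => by
    rw [show commCode [] = cId 9 2 240 from rfl, ← rep_one]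
    exact ⟨rep2s.ok_one, rep2s.den_one⟩
  | p :: l, h => by
    obtain ⟨ha, hb⟩ := h p (by simp)
    obtain ⟨ih1, ih2⟩ := commCode_spec l fun x hx => h x (by simp [hx])
    obtain ⟨-, oa, ⟨oai, da⟩, -⟩ := lift_spec ha
    obtain ⟨-, ob, ⟨obi, db⟩, -⟩ := lift_spec hb
    have o1 := rep2s.ok_mul _ _ oa ob
    have o2 := rep2s.ok_mul _ _ o1 oai
    have o3 := rep2s.ok_mul _ _ o2 obi
    have hcc : commCode (p :: l) = rep2s.mul (rep2s.mul (rep2s.mul (rep2s.mul (lifts.getD p.1 0)
        (lifts.getD p.2 0)) (liftInvs.getD p.1 0)) (liftInvs.getD p.2 0)) (commCode l) := by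
      simp only [rep_mul]
      rfl
    rw [hcc]
    refine ⟨rep2s.ok_mul _ _ o3 ih1, ?_⟩
    rw [rep2s.den_mul _ _ o3 ih1, rep2s.den_mul _ _ o2 obi, rep2s.den_mul _ _ o1 oai,
      rep2s.den_mul _ _ oa ob, da, db, ih2,
      show commProd (lift F) (p :: l) = ⁅lift F p.1, lift F p.2⁆ * commProd (lift F) l from rfl,
      commutatorElement_def]
    simp only [Subgroup.coe_mul, Subgroup.coe_inv, lift_val ha, lift_val hb, Prod.snd_mul,
      Prod.snd_inv]

/-- The central elements. -/
noncomputable def zc (F : Type u) [Field F] (r : ℕ) : cover F := commProd (lift F) (flipPairs r)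

omit [Fintype F] in
theorem zc_snd {r : ℕ} (hr : r < 2) : (zc F r).1.2 = rep2s.den (flipCode r) := by
  obtain ⟨-, hp, hc, -⟩ := cent_spec hr
  rw [zc, ← (commCode_spec _ hp).2, hc]

omit [Fintype F] in
theorem zc_mem_commutator (r : ℕ) : zc F r ∈ commutator (cover F) :=
  list_prod_mem fun y hy => by
    obtain ⟨p, -, rfl⟩ := List.mem_map.mp hy
    exact Subgroup.commutator_mem_commutator (Subgroup.mem_top _) (Subgroup.mem_top _)

variable (hF : Fintype.card F = 2)

include hF in
theorem compat (y : cover F) : ∀ x : Fin 480, ∀ hx : (x : ℕ) < 240,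
    (y.1.2 x : ℕ) / 2 = (ι hF y.1.1 ⟨(x : ℕ) / 2, by omega⟩ : ℕ) := by
  have hy : y.1 ∈ Subgroup.closure ((fun s => (gen F s, rep2s.den (lifts.getD s 0))) '' {s | s < 7}) := y.2
  rw [← Subgroup.mem_toSubmonoid, Subgroup.closure_toSubmonoid_of_finite] at hy
  generalize y.1 = z at hy ⊢
  induction hy using Submonoid.closure_induction with
  | mem t ht =>
    obtain ⟨s, hs, rfl⟩ := ht
    intro x hx
    obtain ⟨-, ho, -, hq⟩ := lift_spec hs
    show (rep2s.den (lifts.getD s 0) x : ℕ) / 2 = (ι hF (gen F s) _ : ℕ)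
    rw [act2s ho, gen_coded hF s hs]
    exact hq x hx
  | one => exact fun x hx => by simp
  | mul a b _ _ ha hb =>
    intro x hx
    have hb' := hb x hx
    have hlt' : (b.2 x : ℕ) < 240 := by
      have := (ι hF b.1 ⟨(x : ℕ) / 2, by omega⟩).2
      omega
    show (a.2 (b.2 x) : ℕ) / 2 = (ι hF (a.1 * b.1) _ : ℕ)
    rw [map_mul, Equiv.Perm.mul_apply, ha (b.2 x) hlt']
    exact congrArg (fun q => (ι hF a.1 q : ℕ)) (Fin.ext hb')

include hF in
theorem snd_injective : Function.Injective (fun y : cover F => y.1.2) := by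
  have key : ∀ y : cover F, y.1.2 = 1 → y = 1 := fun y hy => by
    refine Subtype.ext (Prod.ext (ι_injective hF ?_) hy)
    rw [Subgroup.coe_one, Prod.fst_one, map_one]
    refine Equiv.ext fun q => Fin.ext ?_
    have h := compat hF y ⟨2 * (q : ℕ), by omega⟩ (show 2 * (q : ℕ) < 240 by omega)
    rw [hy] at h
    simp only [Equiv.Perm.one_apply, Nat.mul_div_cancel_left (q : ℕ) (by norm_num : 0 < 2)] at h
    simp only [Equiv.Perm.one_apply]
    exact h.symm
  intro a b hab
  refine inv_mul_eq_one.mp (key (a⁻¹ * b) ?_)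
  show (a.1.2)⁻¹ * b.1.2 = 1
  rw [show a.1.2 = b.1.2 from hab, inv_mul_cancel]

include hF in
theorem zc_ker {r : ℕ} (hr : r < 2) : zc F r ∈ (proj F).ker := by
  rw [MonoidHom.mem_ker]
  refine ι_injective hF (Equiv.ext fun q => Fin.ext ?_)
  obtain ⟨ho, -, -, -, -, -, hfix, -⟩ := cent_spec hr
  have h := compat hF (zc F r) ⟨2 * (q : ℕ), by omega⟩ (show 2 * (q : ℕ) < 240 by omega)
  rw [zc_snd hr, act2s ho, hfix _ (show 2 * (q : ℕ) < 240 by omega)] at h
  simp only [Nat.mul_div_cancel_left (q : ℕ) (by norm_num : 0 < 2)] at h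
  rw [map_one]
  exact h.symm

include hF in
theorem zc_center {r : ℕ} (hr : r < 2) : zc F r ∈ Subgroup.center (cover F) := by
  rw [Subgroup.mem_center_iff]
  intro y
  refine snd_injective hF ?_
  show y.1.2 * (zc F r).1.2 = (zc F r).1.2 * y.1.2
  rw [zc_snd hr]
  have hle : cover F ≤ (Subgroup.centralizer {rep2s.den (flipCode r)}).comap
      (MonoidHom.snd _ _) := by
    rw [cover, Subgroup.closure_le]
    rintro _ ⟨s, hs, rfl⟩
    rw [SetLike.mem_coe, Subgroup.mem_comap, Subgroup.mem_centralizer_iff]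
    rintro _ rfl
    exact ((cent_spec hr).2.2.2.2.2.2.2 s hs).symm
  exact (Subgroup.mem_centralizer_iff.mp (hle y.2) _ rfl).symm

include hF in
theorem card_cover_le : Nat.card (cover F) ≤ 696729600 := by
  rw [← cover_size, ← rep2s.card_chainGroup coverChain cover_check]
  have hle : cover F ≤ (rep2s.chainGroup coverChain).comap (MonoidHom.snd _ _) := by
    rw [cover, Subgroup.closure_le]
    rintro _ ⟨s, hs, rfl⟩
    exact rep2s.den_mem_span (lift_spec hs).1
  refine Nat.card_le_card_of_injective (fun y => ⟨y.1.2, hle y.2⟩) fun a b h => ?_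
  exact snd_injective hF (congrArg Subtype.val h)

include hF in
theorem proj_surjective : Function.Surjective (proj F) := by
  intro x
  have hx := gen_generates hF x
  induction hx using Submonoid.closure_induction with
  | mem t ht =>
    obtain ⟨s, hs, rfl⟩ := ht
    exact ⟨lift F s, congrArg Prod.fst (lift_val hs)⟩
  | one => exact ⟨1, map_one _⟩
  | mul a b _ _ ha hb =>
    obtain ⟨a', rfl⟩ := ha
    obtain ⟨b', rfl⟩ := hb
    exact ⟨a' * b', map_mul _ _ _⟩

include hF in
theorem exists_stem : ∃ (Γ : Type u) (_ : Group Γ) (_ : Finite Γ) (σ : Γ →* eo (Q F)),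
    Cfsg.IsStemExtension σ ∧ Nonempty (σ.ker ≃* Multiplicative (ZMod 2 × ZMod 2)) := by
  letI : CommGroup (Subgroup.center (cover F)) :=
    { (inferInstance : Group (Subgroup.center (cover F))) with
      mul_comm := fun a b => Subtype.ext (Subgroup.mem_center_iff.mp b.2 a) }
  let Z : ℕ → Subgroup.center (cover F) := fun r =>
    if hr : r < 2 then ⟨zc F r, zc_center hF hr⟩ else 1
  have hZ : ∀ r (hr : r < 2), (Z r : cover F) = zc F r := fun r hr => by
    simp only [Z, dif_pos hr]
  have hsnd : ∀ r, r < 2 → ∀ n : ℕ, ((Z r : cover F) ^ n).1.2 = rep2s.den (flipCode r) ^ n :=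
    fun r hr n => by rw [Subgroup.coe_pow, Prod.pow_snd, hZ r hr, zc_snd hr]
  have hpw : ∀ r, r < 2 → Z r ^ 2 = 1 := fun r hr => by
    apply Subtype.ext
    apply snd_injective hF
    show ((Z r ^ 2 : Subgroup.center (cover F)) : cover F).1.2 = _
    rw [Subgroup.coe_pow, hsnd r hr, (cent_spec hr).2.2.2.1]
    rfl
  let φ := pairHom (Z 0) (Z 1) (hpw 0 (by norm_num)) (hpw 1 (by norm_num))
  let π : Multiplicative (ZMod 2 × ZMod 2) →* cover F := (Subgroup.center _).subtype.comp φ
  have hval : ∀ v : ZMod 2 × ZMod 2, π (Multiplicative.ofAdd v) =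
      (Z 0 : cover F) ^ v.1.val * (Z 1 : cover F) ^ v.2.val := by
    rintro ⟨x, y⟩
    have e := pairHom_apply (Z 0) (Z 1) (hpw 0 (by norm_num)) (hpw 1 (by norm_num)) (x.val : ℤ) (y.val : ℤ)
    simp only [Int.cast_natCast, ZMod.natCast_zmod_val, zpow_natCast] at e
    show ((φ _ : Subgroup.center (cover F)) : cover F) = _
    rw [e]
    simp
  have hinj : Function.Injective π := by
    rw [injective_iff_map_eq_one]
    intro v hv
    rw [← ofAdd_toAdd v, hval] at hv
    have := congrArg (fun y : cover F => y.1.2) hv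
    simp only [Subgroup.coe_mul, Prod.snd_mul, hsnd 0 (by norm_num), hsnd 1 (by norm_num),
      Subgroup.coe_one, Prod.snd_one] at this
    obtain ⟨a, b⟩ := cent_free (ZMod.val_lt _) (ZMod.val_lt _) this
    rw [ZMod.val_eq_zero] at a b
    rw [← ofAdd_toAdd v, ← ofAdd_zero]
    exact congrArg _ (Prod.ext a b)
  have hrange : π.range ≤ (proj F).ker := by
    rintro _ ⟨v, rfl⟩
    rw [← ofAdd_toAdd v, hval]
    refine mul_mem (pow_mem ?_ _) (pow_mem ?_ _) <;>
      rw [hZ _ (by norm_num)] <;> exact zc_ker hF (by norm_num)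
  have hcard : Nat.card π.range = 4 := by
    rw [← Nat.card_congr (MonoidHom.ofInjective hinj).toEquiv]
    simp [Nat.card_eq_fintype_card]
  have hker : (proj F).ker = π.range := by
    refine (Subgroup.eq_of_le_of_card_ge hrange ?_).symm
    have h1 := Subgroup.card_mul_index (proj F).ker
    rw [Subgroup.index_ker, MonoidHom.range_eq_top.mpr (proj_surjective hF), Subgroup.card_top,
      card_group hF] at h1
    have h3 := card_cover_le hF
    rw [hcard]
    generalize Nat.card (proj F).ker = c at h1 ⊢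
    omega
  refine ⟨cover F, inferInstance, inferInstance, proj F,
    ⟨proj_surjective hF, ?_, ?_⟩,
    ⟨(MulEquiv.subgroupCongr hker).trans (MonoidHom.ofInjective hinj).symm⟩⟩
  · rw [hker]
    rintro _ ⟨v, rfl⟩
    exact (φ v).2
  · rw [hker]
    rintro _ ⟨v, rfl⟩
    rw [← ofAdd_toAdd v, hval]
    refine mul_mem (pow_mem ?_ _) (pow_mem ?_ _) <;>
      rw [hZ _ (by norm_num)] <;> exact zc_mem_commutator _

include hF in
theorem kernel_bound {Γ : Type u} [Group Γ] [Finite Γ] (σ : Γ →* eo (Q F))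
    (hσ : Cfsg.IsStemExtension σ) :
    ∃ π : Multiplicative (ZMod 2 × ZMod 2) →* σ.ker, Function.Surjective π := by
  have hcard : numForms cert.D = Nat.card (eo (Q F)) := shape_ok.2.2.trans (card_group hF).symm
  have hb := isBase_of_card (gen_coded hF) wf_ok below_ok hlt distinct_ok hcard
  obtain ⟨u, hu, hle⟩ := exists_generators (gen F) checked
    (tableOK_of_check (gen_coded hF) hb wf_ok below_ok fun i hi =>
      allBelow_eq_true.mp table_ok i (shape_ok.1 ▸ hi))
    (faithful_of_distinct (gen_coded hF) wf_ok below_ok hlt distinct_ok)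
    (gen_generates hF)
    (commProd_of_check (gen_coded hF) hb pow_ok below_ok commData_ok comm_ok)
    (by rw [card_group hF, shape_ok.2.1]) σ hσ
  letI : CommGroup σ.ker :=
    { (inferInstance : Group σ.ker) with
      mul_comm := fun a b => Subtype.ext (Subgroup.mem_center_iff.mp (hσ.2.1 b.2) a) }
  have hords : multi.ords = [2, 2] := rfl
  have hlen : multi.ords.length = 2 := by rw [hords]; rfl
  let U : ℕ → σ.ker := fun r => if hr : r < multi.ords.length then ⟨u r, (hu r hr).1⟩ else 1
  have hU : ∀ r, r < 2 → (U r : Γ) = u r := fun r hr => by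
    simp only [U, dif_pos (show r < multi.ords.length by omega)]
  have hUp : ∀ r, r < 2 → U r ^ 2 = 1 := fun r hr => by
    apply Subtype.ext
    rw [Subgroup.coe_pow, hU r hr]
    have := (hu r (by omega)).2
    interval_cases r <;> simpa [hords] using this
  let φ := pairHom (U 0) (U 1) (hUp 0 (by norm_num)) (hUp 1 (by norm_num))
  refine ⟨φ, fun z => ?_⟩
  suffices (Subgroup.closure (u '' {r | r < multi.ords.length})) ≤ φ.range.map σ.ker.subtype by
    obtain ⟨y, ⟨x, hx⟩, hy⟩ := this (hle z.2)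
    exact ⟨x, hx.trans (Subtype.ext hy)⟩
  rw [Subgroup.closure_le]
  rintro _ ⟨r, hr, rfl⟩
  have e0 := pairHom_apply (U 0) (U 1) (hUp 0 (by norm_num)) (hUp 1 (by norm_num)) 1 0
  have e1 := pairHom_apply (U 0) (U 1) (hUp 0 (by norm_num)) (hUp 1 (by norm_num)) 0 1
  simp only [zpow_zero, zpow_one, mul_one, one_mul] at e0 e1
  have hr2 : r < 2 := by simpa [hlen] using hr
  rw [SetLike.mem_coe]
  refine ⟨U r, ?_, hU r hr2⟩
  interval_cases r
  exacts [⟨_, e0⟩, ⟨_, e1⟩]

include hF in
theorem multiplier : Cfsg.HasSchurMultiplier (Cfsg.POmega F (Cfsg.quadFormPlus 4 F))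
    (Multiplicative (ZMod 2 × ZMod 2)) := by
  rw [← coe_plusQ]
  let e : eo (Q F) ≃* Cfsg.POmega F ⇑(Q F) := pomegaEquiv hF
  have hker : ∀ {Γ : Type u} [Group Γ] {A B : Type u} [Group A] [Group B] (σ : Γ →* A) (f : A ≃* B),
      (f.toMonoidHom.comp σ).ker = σ.ker := fun σ f => by
    ext x; simp [MonoidHom.mem_ker]
  obtain ⟨Γ, i1, i2, σ, ⟨hs1, hs2⟩, ⟨f⟩⟩ := exists_stem hF
  refine ⟨⟨Γ, i1, i2, e.toMonoidHom.comp σ, ⟨e.surjective.comp hs1, (hker σ e).symm ▸ hs2⟩,
    ⟨(MulEquiv.subgroupCongr (hker σ e)).trans f⟩⟩, fun Δ _ _ τ hτ => ?_⟩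
  obtain ⟨π, hπ⟩ := kernel_bound hF (e.symm.toMonoidHom.comp τ)
    ⟨e.symm.surjective.comp hτ.1, (hker τ e.symm).symm ▸ hτ.2⟩
  exact ⟨(MulEquiv.subgroupCongr (hker τ e.symm)).toMonoidHom.comp π,
    (MulEquiv.subgroupCongr (hker τ e.symm)).surjective.comp hπ⟩

end Cover

end Cfsg.Agent.OrthMult.EightTwo
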