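import Mathlib
import Cfsg.Prelude.Def_Classical

/-!
Transport of `Cfsg.POmega` along an isomorphism of fields.
-/

set_option autoImplicit false

namespace Cfsg.Agent.OrthMult.FieldIso

open Matrix

variable {K : Type*} {F : Type*} [Field K] [Field F] {ι : Type} [Fintype ι] [DecidableEq ι]

/-- The isomorphism of general linear groups. -/
noncomputable def glEquiv (σ : K ≃+* F) : GL ι K ≃* GL ι F :=
  Units.mapEquiv σ.mapMatrix.toMulEquiv

theorem glEquiv_mulVec (σ : K ≃+* F) (g : GL ι K) (v : ι → K) :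
    (glEquiv σ g : Matrix ι ι F) *ᵥ (σ ∘ v) = σ ∘ ((g : Matrix ι ι K) *ᵥ v) := by
  funext i
  simp [glEquiv, Matrix.mulVec, dotProduct, map_sum, map_mul]

theorem map_isometry (σ : K ≃+* F) (P : (ι → K) → K) (Q : (ι → F) → F)
    (h : ∀ v, Q (σ ∘ v) = σ (P v)) :
    (Cfsg.isometryGroup K P).map (glEquiv σ).toMonoidHom = Cfsg.isometryGroup F Q := by
  ext g
  obtain ⟨s, rfl⟩ := (glEquiv σ).surjective g
  refine (Subgroup.mem_map_iff_mem (f := (glEquiv σ).toMonoidHom) (glEquiv σ).injective).trans ?_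
  constructor
  · intro hs u _
    show Q ((glEquiv σ s : Matrix ι ι F) *ᵥ u) = Q u
    obtain ⟨v, rfl⟩ : ∃ v, σ ∘ v = u := ⟨σ.symm ∘ u, by funext i; simp⟩
    rw [glEquiv_mulVec, h, h, show P ((s : Matrix ι ι K) *ᵥ v) = P v from hs v v]
  · intro hs u _
    show P ((s : Matrix ι ι K) *ᵥ u) = P u
    apply σ.injective
    rw [← h, ← h, ← glEquiv_mulVec]
    exact hs (σ ∘ u) (σ ∘ u)

/-- The isomorphism of isometry groups. -/
noncomputable def isoEquiv (σ : K ≃+* F) (P : (ι → K) → K) (Q : (ι → F) → F)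
    (h : ∀ v, Q (σ ∘ v) = σ (P v)) : Cfsg.isometryGroup K P ≃* Cfsg.isometryGroup F Q :=
  (MulEquiv.subgroupMap (glEquiv σ) _).trans (MulEquiv.subgroupCongr (map_isometry σ P Q h))

theorem map_omega (σ : K ≃+* F) (P : (ι → K) → K) (Q : (ι → F) → F)
    (h : ∀ v, Q (σ ∘ v) = σ (P v)) :
    (Cfsg.Omega K P).map (isoEquiv σ P Q h).toMonoidHom = Cfsg.Omega F Q := by
  show (commutator _).map _ = commutator _
  rw [commutator_def, Subgroup.map_commutator,
    Subgroup.map_top_of_surjective _ (isoEquiv σ P Q h).surjective]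
  rfl

/-- The isomorphism of the groups `POmega`. -/
noncomputable def pomegaCongr (σ : K ≃+* F) (P : (ι → K) → K) (Q : (ι → F) → F)
    (h : ∀ v, Q (σ ∘ v) = σ (P v)) : Cfsg.POmega K P ≃* Cfsg.POmega F Q :=
  let e : Cfsg.Omega K P ≃* Cfsg.Omega F Q :=
    (MulEquiv.subgroupMap (isoEquiv σ P Q h) _).trans (MulEquiv.subgroupCongr (map_omega σ P Q h))
  QuotientGroup.congr _ _ e (by
    ext x
    obtain ⟨y, rfl⟩ := e.surjective x
    refine (Subgroup.mem_map_iff_mem (f := e.toMonoidHom) e.injective).trans ?_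
    simp only [Subgroup.mem_center_iff, e.surjective.forall, ← map_mul, e.injective.eq_iff])

end Cfsg.Agent.OrthMult.FieldIso
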