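import Cfsg.Agent.OrthMult.SevenThreeCoverCheck
import Cfsg.Prelude.Def_KGroupFacts

/-!
A cover of the seven-dimensional orthogonal group over three elements with centre of order six: the
spin matrices give the involution, and three sheets over the 378 points of norm one, preserving weights
on pairs of these points, give the element of order three.
-/

set_option autoImplicit false
set_option maxHeartbeats 2000000
set_option maxRecDepth 100000

namespace Cfsg.Agent.OrthMult.SevenThree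

open Cfsg Cfsg.Agent.Compute Cfsg.Agent.StemCert Cfsg.Agent.StemCert.CyclicSheets
  Cfsg.Agent.Classical.Quad Cfsg.Agent.OrthMult.SpinSeven QuadraticMap Matrix
open scoped commutatorElement

/-- The permutations of three sheets over 378 points. -/
noncomputable def rep3s : Rep (Equiv.Perm (Fin 1134)) (Fin 1134) :=
  sheetRep 11 3 378 1134 (by norm_num) (by norm_num) (by norm_num) (by norm_num)

attribute [local irreducible] cMul cId lifts liftInvs rflWords ptsOne posOne wtRows midCode shiftPairs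

theorem ιOne_injective : Function.Injective ιOne := by
  refine injective_of_ne ιOne (g := gen 0) fun h => ?_
  have hm := moved
  rw [Bool.not_eq_true', ← Bool.not_eq_true] at hm
  refine hm (allBelow_eq_true.mpr fun p hp => ?_)
  rw [Nat.beq_eq, ← pointHom_gen one_ok (by norm_num) ⟨p, hp⟩]
  have := congrArg (fun σ : Equiv.Perm (Fin 378) => (σ ⟨p, hp⟩ : ℕ)) h
  exact this

theorem rep_mul (a b : ℕ) : rep3s.mul a b = cMul 11 3 378 a b := by
  unfold rep3s sheetRep
  with_reducible rfl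

theorem rep_one : rep3s.one = cId 11 3 378 := by
  unfold rep3s sheetRep
  with_reducible rfl

theorem act3s {c : ℕ} (hc : rep3s.Ok c) (x : Fin 1134) :
    ((rep3s.den c x : Fin 1134) : ℕ) = cAct 11 3 c x :=
  cDen_apply (w := 11) (m := 3) (n := 378) (N := 1134) (hm := by norm_num) (hN := rfl) hc x

theorem lift_spec {s : ℕ} (hs : s < 7) : rep3s.Ok (lifts.getD s 0) ∧
    (rep3s.Ok (liftInvs.getD s 0) ∧
      rep3s.den (liftInvs.getD s 0) = (rep3s.den (lifts.getD s 0))⁻¹) ∧
    ∀ b : Fin 378, getField 11 (lifts.getD s 0) b / 3 = (ιOne (gen s) b : ℕ) := by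
  have h := allBelow_eq_true.mp lifts_ok s hs
  simp only [Bool.and_eq_true, allBelow_eq_true, Nat.beq_eq] at h
  obtain ⟨⟨⟨hok, hoki⟩, hinv⟩, hq⟩ := h
  have ho := rep3s.okb_sound _ hok
  have hoi := rep3s.okb_sound _ hoki
  refine ⟨ho, ⟨hoi, eq_inv_of_mul_eq_one_left ?_⟩, fun b => ?_⟩
  · rw [← rep3s.den_mul _ _ hoi ho, rep_mul, hinv, ← rep_one]
    exact rep3s.den_one
  · exact (hq b b.2).trans (pointHom_gen one_ok hs b).symm

theorem wtKept_all {s : ℕ} (hs : s < 7) : wtKept (lifts.getD s 0) = true := by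
  interval_cases s
  exacts [kept0, kept1, kept2, kept3, kept4, kept5, kept6]

/-- The group of units carrying the spin matrices. -/
abbrev U8 : Type := (Matrix (Fin 8) (Fin 8) (ZMod 3))ˣ

/-- The ambient group of the cover. -/
abbrev Amb : Type := eo Q × (U8 × Equiv.Perm (Fin 1134))

/-- The generators of the cover. -/
noncomputable def amb (s : ℕ) : Amb :=
  (gen s, evalW gvec (rflWords.getD s []), rep3s.den (lifts.getD s 0))

/-- The cover. -/
noncomputable def cover : Subgroup Amb := Subgroup.closure (amb '' {s | s < 7})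

/-- The lifted generators. -/
noncomputable def lift (s : ℕ) : cover :=
  if hs : s < 7 then ⟨amb s, Subgroup.subset_closure ⟨s, hs, rfl⟩⟩ else 1

theorem lift_val {s : ℕ} (hs : s < 7) : (lift s).1 = amb s := by
  simp only [lift, dif_pos hs]

/-- The covering map. -/
noncomputable def proj : cover →* eo Q := (MonoidHom.fst _ _).comp cover.subtype

theorem surjective_proj (hgen : ∀ x : eo Q, x ∈ Submonoid.closure (gen '' {s | s < 7})) :
    Function.Surjective proj := by
  intro x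
  have hx := hgen x
  induction hx using Submonoid.closure_induction with
  | mem t ht =>
    obtain ⟨s, hs, rfl⟩ := ht
    exact ⟨lift s, congrArg Prod.fst (lift_val hs)⟩
  | one => exact ⟨1, map_one _⟩
  | mul a b _ _ ha hb =>
    obtain ⟨a', rfl⟩ := ha
    obtain ⟨b', rfl⟩ := hb
    exact ⟨a' * b', map_mul _ _ _⟩

/-- The next sheet. -/
def nextSheet (x : Fin 1134) : Fin 1134 := ⟨3 * ((x : ℕ) / 3) + ((x : ℕ) + 1) % 3, by omega⟩

/-- The invariants of the cover. -/
structure Good (z : Amb) : Prop where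
  spin : Intertwines z.1.1 z.2.1.val
  block : ∀ x : Fin 1134, (z.2.2 x : ℕ) / 3 = (ιOne z.1 ⟨(x : ℕ) / 3, by omega⟩ : ℕ)
  sheet : ∀ x : Fin 1134, z.2.2 (nextSheet x) = nextSheet (z.2.2 x)
  weight : ∀ x y : Fin 1134, wt x y ≠ 3 → wt (z.2.2 x) (z.2.2 y) = wt x y

theorem Good.one : Good 1 where
  spin := Intertwines.one
  block x := by simp
  sheet x := rfl
  weight x y _ := rfl

theorem Good.mul {a b : Amb} (ha : Good a) (hb : Good b) : Good (a * b) where
  spin := by
    show Intertwines (a.1.1 * b.1.1) (a.2.1 * b.2.1).val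
    rw [Units.val_mul]
    exact ha.spin.mul hb.spin
  block x := by
    show (a.2.2 (b.2.2 x) : ℕ) / 3 = (ιOne (a.1 * b.1) _ : ℕ)
    rw [map_mul, Equiv.Perm.mul_apply, ha.block]
    exact congrArg (fun q => (ιOne a.1 q : ℕ)) (Fin.ext (hb.block x))
  sheet x := by
    show a.2.2 (b.2.2 (nextSheet x)) = nextSheet (a.2.2 (b.2.2 x))
    rw [hb.sheet, ha.sheet]
  weight x y h := by
    show wt (a.2.2 (b.2.2 x)) (a.2.2 (b.2.2 y)) = wt x y
    have := hb.weight x y h
    rw [ha.weight _ _ (by rw [this]; exact h), this]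

theorem wt_eq (x y : ℕ) : wt x y = cond (Nat.beq (getField 2 (wtRows.get 0 (x / 3)) (y / 3)) 3) 3
    ((getField 2 (wtRows.get 0 (x / 3)) (y / 3) + (2 * (x % 3) + y % 3)) % 3) := rfl

theorem getField_two_lt (p i : ℕ) : getField 2 p i < 4 := getField_lt 2 p i

theorem good_amb {s : ℕ} (hs : s < 7) : Good (amb s) := by
  obtain ⟨ho, -, hblock⟩ := lift_spec hs
  have hdiv : ∀ x : Fin 1134, (rep3s.den (lifts.getD s 0) x : ℕ) / 3 =
      getField 11 (lifts.getD s 0) ((x : ℕ) / 3) / 3 := fun x => by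
    rw [act3s ho, cAct_div (by norm_num)]
  refine ⟨?_, fun x => ?_, fun x => Fin.ext ?_, fun x y h => ?_⟩
  · show Intertwines (gen s).1 _
    rw [gen_val hs]
    exact evalW_intertwines _ (words_spec hs)
  · exact (hdiv x).trans (hblock ⟨(x : ℕ) / 3, by omega⟩)
  · show (rep3s.den (lifts.getD s 0) (nextSheet x) : ℕ) =
      3 * ((rep3s.den (lifts.getD s 0) x : ℕ) / 3) + ((rep3s.den (lifts.getD s 0) x : ℕ) + 1) % 3
    rw [act3s ho, act3s ho, cAct_eq, cAct_eq,
      show ((nextSheet x : Fin 1134) : ℕ) = 3 * ((x : ℕ) / 3) + ((x : ℕ) + 1) % 3 from rfl,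
      show (3 * ((x : ℕ) / 3) + ((x : ℕ) + 1) % 3) / 3 = (x : ℕ) / 3 by omega]
    omega
  · show wt (rep3s.den (lifts.getD s 0) x : ℕ) (rep3s.den (lifts.getD s 0) y : ℕ) = wt x y
    have hk := wtKept_all hs
    simp only [wtKept, allBelow_eq_true] at hk
    have hk' := hk ((x : ℕ) / 3) (by omega)
    simp only [forceN_eq, allBelow_eq_true, Bool.or_eq_true, Nat.beq_eq] at hk'
    have hxy := hk' ((y : ℕ) / 3) (by omega)
    have h3 : getField 2 (wtRows.get 0 ((x : ℕ) / 3)) ((y : ℕ) / 3) ≠ 3 := fun e => h (by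
      rw [wt_eq, e]; rfl)
    have hW := hxy.resolve_left h3
    rw [act3s ho, act3s ho]
    rw [wt_eq] at hW ⊢
    rw [wt_eq, cAct_div (by norm_num), cAct_div (by norm_num), cAct_mod, cAct_mod]
    have e3 : Nat.beq (getField 2 (wtRows.get 0 ((x : ℕ) / 3)) ((y : ℕ) / 3)) 3 = false := by
      rw [← Bool.not_eq_true, Nat.beq_eq]
      exact h3
    rw [e3, cond_false]
    cases e : Nat.beq (getField 2 (wtRows.get 0 (getField 11 (lifts.getD s 0) ((x : ℕ) / 3) / 3))
        (getField 11 (lifts.getD s 0) ((y : ℕ) / 3) / 3)) 3 with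
    | true =>
      rw [e, cond_true] at hW
      exact absurd hW.symm h3
    | false =>
      rw [e, cond_false] at hW
      rw [cond_false]
      have := getField_two_lt (wtRows.get 0 ((x : ℕ) / 3)) ((y : ℕ) / 3)
      omega

theorem good (y : cover) : Good y.1 := by
  have hy : y.1 ∈ Subgroup.closure (amb '' {s | s < 7}) := y.2
  rw [← Subgroup.mem_toSubmonoid, Subgroup.closure_toSubmonoid_of_finite] at hy
  generalize y.1 = z at hy ⊢
  induction hy using Submonoid.closure_induction with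
  | mem t ht =>
    obtain ⟨s, hs, rfl⟩ := ht
    exact good_amb hs
  | one => exact Good.one
  | mul a b _ _ ha hb => exact ha.mul hb

/-- The sheet reached from the first point of the first block. -/
def phase (z : Amb) : ℕ := (z.2.2 0 : ℕ) % 3

theorem sq_cases : ∀ a : ZMod 3, a = 0 ∨ a = 1 ∨ a = -1 := by decide

theorem spin_sign {z : Amb} (hz : Good z) (h1 : z.1 = 1) : z.2.1 = 1 ∨ z.2.1 = -1 := by
  have hc : ∀ x : V, z.2.1.val * gam x = gam x * z.2.1.val := fun x => by
    have := hz.spin x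
    rwa [h1, Subgroup.coe_one, oG_one_apply] at this
  have hs := scalar_of_commutes hc
  rcases sq_cases (z.2.1.val 0 0) with e | e | e <;> rw [e] at hs
  · exfalso
    rw [zero_smul] at hs
    have h := z.2.1.mul_inv
    rw [hs, zero_mul] at h
    have := congrArg (fun M : Matrix (Fin 8) (Fin 8) (ZMod 3) => M 0 0) h
    simp at this
  · exact Or.inl (Units.ext (by rw [hs, one_smul, Units.val_one]))
  · exact Or.inr (Units.ext (by rw [hs, neg_one_smul, Units.val_neg, Units.val_one]))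

theorem sheets_of_ker {z : Amb} (hz : Good z) (h1 : z.1 = 1) (x : Fin 1134) :
    (z.2.2 x : ℕ) = 3 * ((x : ℕ) / 3) + ((x : ℕ) + phase z) % 3 := by
  have hb : ∀ x : Fin 1134, (z.2.2 x : ℕ) / 3 = (x : ℕ) / 3 := fun x => by
    rw [hz.block x, h1, map_one]
    rfl
  let φ : Fin 378 → ℕ := fun b => (z.2.2 ⟨3 * (b : ℕ), by omega⟩ : ℕ) % 3
  have hwt : ∀ b c : Fin 378, getField 2 (wtRows.get 0 b) c ≠ 3 → φ b = φ c := fun b c h => by
    have e0 : wt (3 * (b : ℕ)) (3 * (c : ℕ)) = getField 2 (wtRows.get 0 b) c := by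
      have := getField_two_lt (wtRows.get 0 b) c
      rw [wt_eq, show 3 * (b : ℕ) / 3 = b by omega, show 3 * (c : ℕ) / 3 = c by omega,
        show Nat.beq (getField 2 (wtRows.get 0 b) c) 3 = false by
          rw [← Bool.not_eq_true, Nat.beq_eq]; exact h, cond_false]
      omega
    have hw := hz.weight ⟨3 * (b : ℕ), by omega⟩ ⟨3 * (c : ℕ), by omega⟩ (by
      show wt (3 * (b : ℕ)) (3 * (c : ℕ)) ≠ 3
      rw [e0]; exact h)
    change wt _ _ = wt (3 * (b : ℕ)) (3 * (c : ℕ)) at hw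
    rw [e0, wt_eq, hb, hb] at hw
    simp only [show 3 * (b : ℕ) / 3 = b by omega, show 3 * (c : ℕ) / 3 = c by omega] at hw
    rw [show Nat.beq (getField 2 (wtRows.get 0 b) c) 3 = false by
          rw [← Bool.not_eq_true, Nat.beq_eq]; exact h, cond_false] at hw
    have := getField_two_lt (wtRows.get 0 b) c
    show (z.2.2 ⟨3 * (b : ℕ), _⟩ : ℕ) % 3 = (z.2.2 ⟨3 * (c : ℕ), _⟩ : ℕ) % 3
    omega
  have hφ : ∀ c : Fin 378, φ c = phase z := fun c => by
    have h := allBelow_eq_true.mp mid_ok c c.2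
    simp only [Bool.and_eq_true, Nat.blt_eq, Bool.not_eq_true', ← Bool.not_eq_true, Nat.beq_eq] at h
    obtain ⟨⟨hm, h0⟩, h2⟩ := h
    exact (hwt ⟨_, hm⟩ c h2).symm.trans (hwt 0 ⟨_, hm⟩ h0).symm
  have h0 := hφ ⟨(x : ℕ) / 3, by omega⟩
  have hx := hb x
  have key : ∀ r, r < 3 → ∀ hlt : 3 * ((x : ℕ) / 3) + r < 1134,
      (z.2.2 ⟨3 * ((x : ℕ) / 3) + r, hlt⟩ : ℕ) = 3 * ((x : ℕ) / 3) + (r + phase z) % 3 := by
    intro r
    induction r with
    | zero =>
      intro _ hlt
      have hph : phase z < 3 := Nat.mod_lt _ (by norm_num)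
      have ex0 : (⟨3 * ((x : ℕ) / 3) + 0, hlt⟩ : Fin 1134) =
          ⟨3 * ((⟨(x : ℕ) / 3, by omega⟩ : Fin 378) : ℕ), by show 3 * ((x : ℕ) / 3) < 1134; omega⟩ :=
        Fin.ext rfl
      change (z.2.2 ⟨3 * ((⟨(x : ℕ) / 3, by omega⟩ : Fin 378) : ℕ), _⟩ : ℕ) % 3 = phase z at h0
      rw [← ex0] at h0
      have e := hb ⟨3 * ((x : ℕ) / 3) + 0, hlt⟩
      simp only [Nat.add_zero, Nat.zero_add] at e h0 ⊢
      rw [show (3 * ((x : ℕ) / 3)) / 3 = (x : ℕ) / 3 by omega] at e
      omega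
    | succ r ih =>
      intro hr hlt
      have e1 := ih (by omega) (by omega)
      have e : (⟨3 * ((x : ℕ) / 3) + (r + 1), hlt⟩ : Fin 1134) =
          nextSheet ⟨3 * ((x : ℕ) / 3) + r, by omega⟩ := Fin.ext (by
        show 3 * ((x : ℕ) / 3) + (r + 1) = 3 * ((3 * ((x : ℕ) / 3) + r) / 3) + (3 * ((x : ℕ) / 3) + r + 1) % 3
        omega)
      rw [e, hz.sheet]
      show 3 * ((z.2.2 _ : ℕ) / 3) + ((z.2.2 _ : ℕ) + 1) % 3 = _
      rw [e1]
      omega
  have e := key ((x : ℕ) % 3) (Nat.mod_lt _ (by norm_num)) (by omega)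
  have ex : (⟨3 * ((x : ℕ) / 3) + (x : ℕ) % 3, by omega⟩ : Fin 1134) = x := Fin.ext (by
    show 3 * ((x : ℕ) / 3) + (x : ℕ) % 3 = (x : ℕ)
    omega)
  rw [ex] at e
  omega

theorem ker_ext {a b : cover} (ha : a ∈ proj.ker) (hb : b ∈ proj.ker)
    (hU : a.1.2.1 = b.1.2.1) (hp : phase a.1 = phase b.1) : a = b := by
  have ha' : a.1.1 = 1 := ha
  have hb' : b.1.1 = 1 := hb
  refine Subtype.ext (Prod.ext (ha'.trans hb'.symm) (Prod.ext hU (Equiv.ext fun x => Fin.ext ?_)))
  rw [sheets_of_ker (good a) ha', sheets_of_ker (good b) hb', hp]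

theorem phase_mul {a b : Amb} (ha : Good a) (hb : Good b) (a1 : a.1 = 1) (b1 : b.1 = 1) :
    phase (a * b) = (phase a + phase b) % 3 := by
  show (a.2.2 (b.2.2 0) : ℕ) % 3 = ((a.2.2 0 : ℕ) % 3 + (b.2.2 0 : ℕ) % 3) % 3
  rw [sheets_of_ker ha a1 (b.2.2 0), sheets_of_ker hb b1 0]
  unfold phase
  simp only [Fin.val_zero]
  omega

theorem phase_pow (a : cover) (ha : a ∈ proj.ker) :
    ∀ n : ℕ, phase (a ^ n).1 = n * phase a.1 % 3
  | 0 => by simp [phase]
  | n + 1 => by
    rw [pow_succ, Subgroup.coe_mul, phase_mul (good _) (good a) (show (a ^ n).1.1 = 1 from pow_mem ha n) (show a.1.1 = 1 from ha), phase_pow a ha n]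
    rw [Nat.succ_mul]
    omega

theorem ker_le_center : proj.ker ≤ Subgroup.center cover := fun a ha => by
  have ha' : a.1.1 = 1 := ha
  rw [Subgroup.mem_center_iff]
  intro y
  refine Subtype.ext (Prod.ext ?_ (Prod.ext ?_ (Equiv.ext fun x => Fin.ext ?_)))
  · show y.1.1 * a.1.1 = a.1.1 * y.1.1
    rw [ha', mul_one, one_mul]
  · show y.1.2.1 * a.1.2.1 = a.1.2.1 * y.1.2.1
    rcases spin_sign (good a) ha' with e | e <;> rw [e]
    · rw [mul_one, one_mul]
    · rw [mul_neg, neg_mul, mul_one, one_mul]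
  · show (y.1.2.2 (a.1.2.2 x) : ℕ) = (a.1.2.2 (y.1.2.2 x) : ℕ)
    have hy := good y
    have h3 : phase a.1 < 3 := Nat.mod_lt _ (by norm_num)
    have ex := sheets_of_ker (good a) ha' x
    have ey := sheets_of_ker (good a) ha' (y.1.2.2 x)
    have hs := hy.sheet x
    have hs2 := hy.sheet (nextSheet x)
    interval_cases hk : phase a.1
    · rw [show a.1.2.2 x = x from Fin.ext (by omega)]
      omega
    · rw [show a.1.2.2 x = nextSheet x from Fin.ext (ex.trans rfl), hs, ey]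
      rfl
    · rw [show a.1.2.2 x = nextSheet (nextSheet x) from Fin.ext (by
        rw [ex]
        show _ = 3 * ((3 * ((x : ℕ) / 3) + ((x : ℕ) + 1) % 3) / 3) +
          ((3 * ((x : ℕ) / 3) + ((x : ℕ) + 1) % 3) + 1) % 3
        omega), hs2, hs, ey]
      show 3 * ((3 * ((y.1.2.2 x : ℕ) / 3) + ((y.1.2.2 x : ℕ) + 1) % 3) / 3) +
          ((3 * ((y.1.2.2 x : ℕ) / 3) + ((y.1.2.2 x : ℕ) + 1) % 3) + 1) % 3 = _
      omega

theorem commCode_spec : ∀ l : List (ℕ × ℕ), (∀ p ∈ l, p.1 < 7 ∧ p.2 < 7) →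
    rep3s.Ok (commCode l) ∧ rep3s.den (commCode l) = (commProd lift l).1.2.2
  | [], _ => by
    rw [show commCode [] = cId 11 3 378 from rfl, ← rep_one]
    exact ⟨rep3s.ok_one, rep3s.den_one⟩
  | p :: l, h => by
    obtain ⟨ha, hb⟩ := h p (by simp)
    obtain ⟨ih1, ih2⟩ := commCode_spec l fun x hx => h x (by simp [hx])
    obtain ⟨oa, ⟨oai, da⟩, -⟩ := lift_spec ha
    obtain ⟨ob, ⟨obi, db⟩, -⟩ := lift_spec hb
    have o1 := rep3s.ok_mul _ _ oa ob
    have o2 := rep3s.ok_mul _ _ o1 oai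
    have o3 := rep3s.ok_mul _ _ o2 obi
    have hcc : commCode (p :: l) = rep3s.mul (rep3s.mul (rep3s.mul (rep3s.mul (lifts.getD p.1 0)
        (lifts.getD p.2 0)) (liftInvs.getD p.1 0)) (liftInvs.getD p.2 0)) (commCode l) := by
      simp only [rep_mul]
      rfl
    rw [hcc]
    refine ⟨rep3s.ok_mul _ _ o3 ih1, ?_⟩
    rw [rep3s.den_mul _ _ o3 ih1, rep3s.den_mul _ _ o2 obi, rep3s.den_mul _ _ o1 oai,
      rep3s.den_mul _ _ oa ob, da, db, ih2,
      show commProd lift (p :: l) = ⁅lift p.1, lift p.2⁆ * commProd lift l from rfl,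
      commutatorElement_def]
    simp only [Subgroup.coe_mul, Subgroup.coe_inv, lift_val ha, lift_val hb, amb, Prod.snd_mul,
      Prod.snd_inv]

theorem exists_shift : ∃ a : cover, a ∈ proj.ker ∧ a ∈ commutator cover ∧ phase a.1 ≠ 0 := by
  have h := shift_ok
  simp only [Bool.and_eq_true, allBelow_eq_true, Bool.not_eq_true', ← Bool.not_eq_true,
    Nat.beq_eq] at h
  obtain ⟨⟨hp, h0⟩, hb⟩ := h
  have hp' : ∀ p ∈ shiftPairs, p.1 < 7 ∧ p.2 < 7 := fun p hm => by
    simpa [Nat.blt_eq] using allB_spec hp p hm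
  obtain ⟨ho, hd⟩ := commCode_spec _ hp'
  refine ⟨commProd lift shiftPairs, ?_, ?_, ?_⟩
  · rw [MonoidHom.mem_ker]
    refine ιOne_injective (Equiv.ext fun q => Fin.ext ?_)
    have hg := (good (commProd lift shiftPairs)).block ⟨3 * (q : ℕ), by omega⟩
    rw [← hd, act3s ho, cAct_div (by norm_num)] at hg
    simp only [show 3 * (q : ℕ) / 3 = q by omega] at hg
    rw [show getField 11 (commCode shiftPairs) (q : ℕ) / 3 = (q : ℕ) from hb q q.2] at hg
    rw [map_one]
    exact hg.symm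
  · exact list_prod_mem fun y hy => by
      obtain ⟨p, -, rfl⟩ := List.mem_map.mp hy
      exact Subgroup.commutator_mem_commutator (Subgroup.mem_top _) (Subgroup.mem_top _)
  · intro e
    refine h0 ?_
    have hb0 : getField 11 (commCode shiftPairs) 0 / 3 = 0 := hb 0 (by norm_num)
    rw [phase, ← hd, act3s ho] at e
    simp only [Fin.val_zero] at e
    have := cAct_div (w := 11) (by norm_num : 0 < 3) (commCode shiftPairs) 0
    rw [Nat.zero_div, hb0] at this
    omega

/-- Three orthogonal vectors of norm one or two sharing it. -/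
noncomputable def axis (i : ℕ) : V := decV ([1, 84, 252].getD i 0)

theorem axis_ok : (Nat.beq (qC 1) 1 && Nat.beq (qC 84) 1 && Nat.beq (qC 252) 1 &&
    Nat.beq (Nat.mod (polC 1 84) 3) 0 && Nat.beq (Nat.mod (polC 1 252) 3) 0 &&
    Nat.beq (Nat.mod (polC 84 252) 3) 0) = true := by decide +kernel

theorem gam_comm {u w : V} (h : polar Q u w = 0) : gam u * gam w = -(gam w * gam u) := by
  have := gam_anticomm u w
  rw [h, zero_smul] at this
  exact eq_neg_of_add_eq_zero_left this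

theorem rO_comm {u w : V} (hu : Q u ≠ 0) (hw : Q w ≠ 0) (h : polar Q u w = 0) :
    rO hu * rO hw = rO hw * rO hu := by
  refine ext_oG fun x => ?_
  have h' : polar Q w u = 0 := by rw [polar_comm]; exact h
  rw [oG_mul_apply, oG_mul_apply, rO_apply, rO_apply, rO_apply, rO_apply, polar_sub_left,
    polar_sub_left, polar_smul_left, polar_smul_left, h, h']
  simp only [smul_zero, sub_zero]
  abel

theorem exists_neg (hgen : ∀ x : eo Q, x ∈ Submonoid.closure (gen '' {s | s < 7})) :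
    ∃ a : cover, a ∈ proj.ker ∧ a ∈ commutator cover ∧ a.1.2.1 = -1 := by
  have hk := axis_ok
  simp only [Bool.and_eq_true, Nat.beq_eq] at hk
  obtain ⟨⟨⟨⟨⟨q1, q2⟩, q3⟩, p12⟩, p13⟩, p23⟩ := hk
  set u1 := decV 1
  set u2 := decV 84
  set u3 := decV 252
  have hq : ∀ c, qC c = 1 → Q (decV c) = 1 := fun c h => by rw [Q_decV, h]; rfl
  have hne : ∀ c, qC c = 1 → Q (decV c) ≠ 0 := fun c h => by rw [hq c h]; decide
  have hpol : ∀ x y, Nat.mod (polC x y) 3 = 0 → polar Q (decV x) (decV y) = 0 := fun x y h => by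
    rw [polar_decV, ← cast_mod, h, Nat.cast_zero]
  let g1 : eo Q := ⟨rO (hne 1 q1) * rO (hne 84 q2), rO_pair_mem _ _ (by rw [hq _ q1, hq _ q2])⟩
  let g2 : eo Q := ⟨rO (hne 84 q2) * rO (hne 252 q3), rO_pair_mem _ _ (by rw [hq _ q2, hq _ q3])⟩
  obtain ⟨a, ha⟩ := surjective_proj hgen g1
  obtain ⟨b, hb⟩ := surjective_proj hgen g2
  refine ⟨⁅a, b⁆, ?_, Subgroup.commutator_mem_commutator (Subgroup.mem_top _) (Subgroup.mem_top _),
    ?_⟩
  · rw [MonoidHom.mem_ker, map_commutatorElement, ha, hb, commutatorElement_eq_one_iff_mul_comm]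
    refine Subtype.ext ?_
    show rO (hne 1 q1) * rO (hne 84 q2) * (rO (hne 84 q2) * rO (hne 252 q3)) =
      rO (hne 84 q2) * rO (hne 252 q3) * (rO (hne 1 q1) * rO (hne 84 q2))
    have c12 := rO_comm (hne 1 q1) (hne 84 q2) (hpol _ _ p12)
    have c13 := rO_comm (hne 1 q1) (hne 252 q3) (hpol _ _ p13)
    have c23 := rO_comm (hne 84 q2) (hne 252 q3) (hpol _ _ p23)
    calc rO (hne 1 q1) * rO (hne 84 q2) * (rO (hne 84 q2) * rO (hne 252 q3))
        = rO (hne 1 q1) * (rO (hne 84 q2) * rO (hne 84 q2)) * rO (hne 252 q3) := by group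
      _ = rO (hne 1 q1) * rO (hne 252 q3) := by rw [rO_mul_self, mul_one]
      _ = rO (hne 252 q3) * rO (hne 1 q1) * (rO (hne 84 q2) * rO (hne 84 q2)) := by
          rw [rO_mul_self, mul_one, c13]
      _ = rO (hne 252 q3) * (rO (hne 1 q1) * rO (hne 84 q2)) * rO (hne 84 q2) := by group
      _ = rO (hne 252 q3) * (rO (hne 84 q2) * rO (hne 1 q1)) * rO (hne 84 q2) := by rw [c12]
      _ = rO (hne 252 q3) * rO (hne 84 q2) * (rO (hne 1 q1) * rO (hne 84 q2)) := by group
      _ = _ := by rw [c23]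
  · have key : ∀ (z : cover) (u w : V) (hu : Q u ≠ 0) (hw : Q w ≠ 0),
        z.1.1.1 = rO hu * rO hw →
        z.1.2.1 = gamU u hu * gamU w hw ∨ z.1.2.1 = -(gamU u hu * gamU w hw) := by
      intro z u w hu hw hz
      set P := gamU u hu * gamU w hw
      have hP : ∀ x, P.val * gam x = gam (z.1.1.1.1 x) * P.val := fun x => by
        rw [hz, show P.val = gam u * gam w from rfl]
        exact intertwines_pair hu hw x
      have hM : ∀ x, (P⁻¹ * z.1.2.1).val * gam x = gam x * (P⁻¹ * z.1.2.1).val := fun x => by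
        rw [Units.val_mul, mul_assoc, (good z).spin x, ← mul_assoc, ← mul_assoc]
        congr 1
        rw [← Units.mul_right_inj P, ← mul_assoc, Units.mul_inv, one_mul, ← mul_assoc, hP,
          Units.mul_inv_cancel_right]
      have hs := scalar_of_commutes hM
      rcases sq_cases ((P⁻¹ * z.1.2.1).val 0 0) with e | e | e <;> rw [e] at hs
      · exfalso
        rw [zero_smul] at hs
        have h := (P⁻¹ * z.1.2.1).mul_inv
        rw [hs, zero_mul] at h
        have := congrArg (fun M : Matrix (Fin 8) (Fin 8) (ZMod 3) => M 0 0) h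
        simp at this
      · left
        have h1 : P⁻¹ * z.1.2.1 = 1 := Units.ext (by rw [hs, one_smul, Units.val_one])
        exact (inv_mul_eq_one.mp h1).symm
      · right
        have h1 : P⁻¹ * z.1.2.1 = -1 := Units.ext (by
          rw [hs, neg_one_smul, Units.val_neg, Units.val_one])
        rw [inv_mul_eq_iff_eq_mul] at h1
        rw [h1, mul_neg, mul_one]
    have ha1 := key a _ _ (hne 1 q1) (hne 84 q2) (congrArg Subtype.val ha)
    have hb1 := key b _ _ (hne 84 q2) (hne 252 q3) (congrArg Subtype.val hb)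
    set A := gamU u1 (hne 1 q1)
    set B := gamU u2 (hne 84 q2)
    set C := gamU u3 (hne 252 q3)
    have sq : ∀ (c : ℕ) (h : qC c = 1), gamU (decV c) (hne c h) * gamU (decV c) (hne c h) = 1 :=
      fun c h => Units.ext (by
        show gam (decV c) * gam (decV c) = 1
        rw [gam_mul_self, hq c h, one_smul])
    have ac : ∀ (x y : ℕ) (hx : qC x = 1) (hy : qC y = 1), Nat.mod (polC x y) 3 = 0 →
        gamU (decV x) (hne x hx) * gamU (decV y) (hne y hy) =
          -(gamU (decV y) (hne y hy) * gamU (decV x) (hne x hx)) :=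
      fun x y hx hy h => Units.ext (gam_comm (hpol x y h))
    have base : ⁅A * B, B * C⁆ = -1 := by
      have hA : A⁻¹ = A := inv_eq_of_mul_eq_one_right (sq 1 q1)
      have hB : B⁻¹ = B := inv_eq_of_mul_eq_one_right (sq 84 q2)
      have hC : C⁻¹ = C := inv_eq_of_mul_eq_one_right (sq 252 q3)
      have hBA : B * A = -(A * B) := by rw [ac 1 84 q1 q2 p12, neg_neg]
      have hCA : C * A = -(A * C) := by rw [ac 1 252 q1 q3 p13, neg_neg]
      have hCB : C * B = -(B * C) := by rw [ac 84 252 q2 q3 p23, neg_neg]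
      rw [commutatorElement_def, _root_.mul_inv_rev, _root_.mul_inv_rev, hA, hB, hC]
      calc A * B * (B * C) * (B * A) * (C * B)
          = A * (B * B) * (C * (B * A) * (C * B)) := by group
        _ = A * (C * (-(A * B)) * -(B * C)) := by rw [sq 84 q2, hBA, hCB, mul_one]
        _ = A * (C * A * (B * B) * C) := by
            simp only [mul_neg, neg_mul, neg_neg, mul_assoc]
        _ = A * (-(A * C) * C) := by rw [sq 84 q2, mul_one, hCA]
        _ = -(A * A * (C * C)) := by simp only [mul_neg, neg_mul, mul_assoc]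
        _ = -1 := by rw [sq 1 q1, sq 252 q3, mul_one]
    have ncomm : ∀ x y : U8, ⁅-x, y⁆ = ⁅x, y⁆ ∧ ⁅x, -y⁆ = ⁅x, y⁆ := fun x y => by
      have hinv : ∀ t : U8, (-t)⁻¹ = -t⁻¹ := fun t =>
        inv_eq_of_mul_eq_one_right (by rw [neg_mul_neg, mul_inv_cancel])
      constructor <;> simp only [commutatorElement_def, hinv, neg_mul, mul_neg, neg_neg]
    show ⁅a.1.2.1, b.1.2.1⁆ = -1
    rcases ha1 with e1 | e1 <;> rcases hb1 with e2 | e2 <;> rw [e1, e2] <;>
      simp only [(ncomm _ _).1, (ncomm _ _).2, base]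

theorem neg_one_ne : (-1 : U8) ≠ 1 := fun h => by
  have := congrArg (fun u : U8 => u.val 0 0) h
  simp at this
  exact absurd this (by decide)

theorem exists_stem (hgen : ∀ x : eo Q, x ∈ Submonoid.closure (gen '' {s | s < 7})) :
    Cfsg.IsStemExtension proj ∧ Nonempty (proj.ker ≃* Multiplicative (ZMod 6)) := by
  obtain ⟨a, ha, hac, hap⟩ := exists_shift
  obtain ⟨b, hb, hbc, hbs⟩ := exists_neg hgen
  let c : cover := b ^ 3 * a ^ 2
  have hc : c ∈ proj.ker := mul_mem (pow_mem hb 3) (pow_mem ha 2)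
  have hU : ∀ x : cover, ∀ n : ℕ, (x ^ n).1.2.1 = x.1.2.1 ^ n := fun x n => by
    rw [Subgroup.coe_pow]; rfl
  have hneg2 : (-1 : U8) ^ 2 = 1 := neg_one_sq
  have hcU : c.1.2.1 = -1 := by
    show (b ^ 3).1.2.1 * (a ^ 2).1.2.1 = -1
    rw [hU, hU, hbs]
    rcases spin_sign (good a) ha with e | e <;> rw [e]
    · simp [pow_succ]
    · simp [pow_succ]
  have hcp : phase c.1 ≠ 0 := by
    show phase ((b ^ 3).1 * (a ^ 2).1) ≠ 0
    rw [phase_mul (good _) (good _) (show (b ^ 3).1.1 = 1 from pow_mem hb 3) (show (a ^ 2).1.1 = 1 from pow_mem ha 2), phase_pow b hb, phase_pow a ha]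
    have := Nat.mod_lt (a.1.2.2 0 : ℕ) (show 0 < 3 by norm_num)
    unfold phase at hap ⊢
    omega
  have hc6 : c ^ 6 = 1 := by
    refine ker_ext (pow_mem hc 6) (one_mem _) ?_ ?_
    · rw [hU, hcU]
      show (-1 : U8) ^ 6 = 1
      rw [show 6 = 2 * 3 by norm_num, pow_mul, hneg2, one_pow]
    · rw [phase_pow c hc]
      show 6 * phase c.1 % 3 = 0
      omega
  let π : Multiplicative (ZMod 6) →* proj.ker := AddMonoidHom.toMultiplicativeLeft (ZMod.lift 6
    ⟨zmultiplesHom (Additive proj.ker) (Additive.ofMul ⟨c, hc⟩), by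
      simp only [zmultiplesHom_apply, natCast_zsmul]
      exact congrArg Additive.ofMul (Subtype.ext hc6)⟩)
  have hπ : ∀ n : ℕ, (π (Multiplicative.ofAdd (n : ZMod 6)) : cover) = c ^ n := fun n => by
    have : ((n : ℤ) : ZMod 6) = (n : ZMod 6) := Int.cast_natCast n
    rw [← this]
    show ((Additive.toMul (ZMod.lift 6 _ ((n : ℤ) : ZMod 6)) : proj.ker) : cover) = _
    rw [ZMod.lift_coe]
    show ((⟨c, hc⟩ : proj.ker) ^ (n : ℤ) : proj.ker).1 = _
    rw [zpow_natCast, Subgroup.coe_pow]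
  have hinj : Function.Injective π := by
    rw [injective_iff_map_eq_one]
    intro v hv
    obtain ⟨n, hn, rfl⟩ : ∃ n : ℕ, n < 6 ∧ Multiplicative.ofAdd (n : ZMod 6) = v :=
      ⟨(Multiplicative.toAdd v).val, ZMod.val_lt _, by rw [ZMod.natCast_zmod_val]; rfl⟩
    have h1 : c ^ n = 1 := by rw [← hπ, hv]; rfl
    have e1 : (-1 : U8) ^ n = 1 := by rw [← hcU, ← hU, h1]; rfl
    have e2 : n * phase c.1 % 3 = 0 := by rw [← phase_pow c hc, h1]; rfl
    have h3 : phase c.1 < 3 := Nat.mod_lt _ (by norm_num)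
    interval_cases n
    · rfl
    all_goals first
      | omega
      | (simp [pow_succ, neg_one_ne] at e1)
  have hsurj : Function.Surjective π := by
    intro x
    have hx3 : phase x.1.1 < 3 := Nat.mod_lt _ (by norm_num)
    have hc3 : phase c.1 < 3 := Nat.mod_lt _ (by norm_num)
    have ex : ∀ t : Fin 2, ∀ p d : Fin 3, (d : ℕ) ≠ 0 →
        ∃ n : Fin 6, (n : ℕ) % 2 = (t : ℕ) ∧ (n : ℕ) * (d : ℕ) % 3 = (p : ℕ) := by decide
    obtain ⟨t, ht, hts⟩ : ∃ t < 2, x.1.1.2.1 = (-1 : U8) ^ t := by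
      rcases spin_sign (good x.1) x.2 with e | e
      · exact ⟨0, by norm_num, e.trans (pow_zero _).symm⟩
      · exact ⟨1, by norm_num, e.trans (pow_one _).symm⟩
    obtain ⟨n, hnt, e2⟩ : ∃ n : ℕ, n % 2 = t ∧ n * phase c.1 % 3 = phase x.1.1 := by
      obtain ⟨m, h⟩ := ex ⟨t, ht⟩ ⟨_, hx3⟩ ⟨_, hc3⟩ hcp
      exact ⟨(m : ℕ), h⟩
    have e1 : (-1 : U8) ^ n = x.1.1.2.1 := by rw [hts, pow_eq_pow_mod n hneg2, hnt]
    refine ⟨Multiplicative.ofAdd (n : ZMod 6), Subtype.ext ?_⟩
    rw [hπ]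
    refine ker_ext (pow_mem hc n) x.2 ?_ ?_
    · rw [hU, hcU, e1]
    · rw [phase_pow c hc, e2]
  refine ⟨⟨surjective_proj hgen, ker_le_center, fun x hx => ?_⟩,
    ⟨(MulEquiv.ofBijective π ⟨hinj, hsurj⟩).symm⟩⟩
  obtain ⟨v, hv⟩ := hsurj ⟨x, hx⟩
  have hxv : x = (π (Multiplicative.ofAdd ((Multiplicative.toAdd v).val : ZMod 6)) : cover) := by
    rw [ZMod.natCast_zmod_val, ofAdd_toAdd, hv]
  rw [hxv, hπ]
  exact pow_mem (mul_mem (pow_mem hbc 3) (pow_mem hac 2)) _

end Cfsg.Agent.OrthMult.SevenThree
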