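import Cfsg.Agent.OrthMult.SevenThreeCheck
import Cfsg.Agent.OrthMult.SevenThreeCover
import Cfsg.Agent.OrthMult.FieldIso
import Cfsg.Agent.StemCert.MultiExp
import Cfsg.Agent.StemCert.Count

/-!
The Schur multiplier of the seven-dimensional orthogonal group over three elements is cyclic of order six:
a certificate on the 351 points of norm two bounds every stem extension, and the cover attains the bound.
-/

set_option autoImplicit false
set_option maxHeartbeats 2000000
set_option maxRecDepth 100000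

universe u

namespace Cfsg.Agent.OrthMult.SevenThree

open Cfsg Cfsg.Agent.Compute Cfsg.Agent.StemCert Cfsg.Agent.Classical.Quad
  Cfsg.Agent.OrthMult.SpinSeven QuadraticMap Matrix

theorem codes_ok : allBelow 7 (fun s => allBelow 351 fun p => Nat.beq (getField 9 (codes.getD s 0) p)
    (getField 9 posTwo (rApp (rflWords.getD s []) (getField 12 ptsTwo p)))) = true := by
  decide +kernel

theorem moved_two : (!allBelow 351 fun p => Nat.beq (getField 9 (codes.getD 0 0) p) p) = true := by
  decide +kernel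

attribute [local irreducible] rflWords ptsTwo posTwo codes

theorem gen_coded : Coded (w := 9) (k := 7) ι gen codes := by
  intro s hs p
  have h := allBelow_eq_true.mp (allBelow_eq_true.mp codes_ok s hs) p p.2
  rw [Nat.beq_eq] at h
  exact (pointHom_gen two_ok hs p).trans h.symm

theorem ι_injective : Function.Injective ι := by
  refine injective_of_ne ι (g := gen 0) fun h => ?_
  have hm := moved_two
  rw [Bool.not_eq_true', ← Bool.not_eq_true] at hm
  refine hm (allBelow_eq_true.mpr fun p hp => ?_)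
  rw [Nat.beq_eq, ← gen_coded 0 (by norm_num) ⟨p, hp⟩, h]
  rfl

theorem hlt : ∀ b ∈ base, b < 351 := fun b hb => by simpa [Nat.blt_eq] using allB_spec blt_ok b hb

theorem gen_generates (x : eo Q) : x ∈ Submonoid.closure (gen '' {s | s < 7}) :=
  generates_of_card gen_coded wf_ok below_ok hlt distinct_ok (shape_ok.2.2.trans card_group.symm) x

theorem prime_spec : ∀ p : ℕ, p.Prime → p ∣ 455 → ¬ p ∣ 10077696 ∧ ¬ p * p ∣ 455 := by
  intro p hp hd
  have h : p = 5 ∨ p = 7 ∨ p = 13 := by
    rw [show (455 : ℕ) = 5 * (7 * 13) by norm_num, hp.dvd_mul, hp.dvd_mul,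
      Nat.prime_dvd_prime_iff_eq hp (by norm_num), Nat.prime_dvd_prime_iff_eq hp (by norm_num),
      Nat.prime_dvd_prime_iff_eq hp (by norm_num)] at hd
    exact hd
  rcases h with rfl | rfl | rfl <;> norm_num

theorem kernel_bound {Γ : Type u} [Group Γ] [Finite Γ] (σ : Γ →* eo Q)
    (hσ : Cfsg.IsStemExtension σ) :
    ∃ π : Multiplicative (ZMod 6) →* σ.ker, Function.Surjective π := by
  have hcard : numForms cert.D = Nat.card (eo Q) := shape_ok.2.2.trans card_group.symm
  have hb := isBase_of_card gen_coded wf_ok below_ok hlt distinct_ok hcard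
  obtain ⟨u, hu, hle⟩ := exists_generators_of_exp gen checked
    (tableOK_of_check gen_coded hb wf_ok below_ok fun i hi =>
      allBelow_eq_true.mp table_ok i (shape_ok.1 ▸ hi))
    (faithful_of_distinct gen_coded wf_ok below_ok hlt distinct_ok)
    gen_generates
    (commProd_of_check gen_coded hb pow_ok below_ok commData_ok comm_ok)
    σ hσ (fun c hc => by
      rw [shape_ok.2.1]
      exact ker_pow_eq_one σ hσ (m := 10077696) (r := 455) (by rw [card_group]) prime_spec c hc)
  letI : CommGroup σ.ker :=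
    { (inferInstance : Group σ.ker) with
      mul_comm := fun a b => Subtype.ext (Subgroup.mem_center_iff.mp (hσ.2.1 b.2) a) }
  have hords : multi.ords = [6] := rfl
  obtain ⟨hu0, hu6⟩ := hu 0 (by rw [hords]; simp)
  have hU : (⟨u 0, hu0⟩ : σ.ker) ^ 6 = 1 := Subtype.ext (by simpa [hords] using hu6)
  let π : Multiplicative (ZMod 6) →* σ.ker := AddMonoidHom.toMultiplicativeLeft (ZMod.lift 6
    ⟨zmultiplesHom (Additive σ.ker) (Additive.ofMul ⟨u 0, hu0⟩), by
      simp only [zmultiplesHom_apply, natCast_zsmul]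
      exact congrArg Additive.ofMul hU⟩)
  refine ⟨π, fun z => ?_⟩
  suffices Subgroup.closure (u '' {r | r < multi.ords.length}) ≤ π.range.map σ.ker.subtype by
    obtain ⟨y, ⟨x, hx⟩, hy⟩ := this (hle z.2)
    exact ⟨x, hx.trans (Subtype.ext hy)⟩
  rw [Subgroup.closure_le]
  rintro _ ⟨r, hr, rfl⟩
  obtain rfl : r = 0 := by simpa [hords] using hr
  refine ⟨⟨u 0, hu0⟩, ⟨Multiplicative.ofAdd ((1 : ℤ) : ZMod 6), ?_⟩, rfl⟩
  show Additive.toMul (ZMod.lift 6 _ ((1 : ℤ) : ZMod 6)) = _
  rw [ZMod.lift_coe]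
  exact zpow_one _

theorem multiplier {F : Type u} [Field F] [Fintype F] (hF : Fintype.card F = 3) :
    Cfsg.HasCyclicSchurMultiplier (Cfsg.POmega F (Cfsg.quadFormOdd 3 F)) 6 := by
  let ρ : ZMod 3 ≃+* F := ZMod.ringEquivOfPrime F Nat.prime_three hF
  let e : eo Q ≃* Cfsg.POmega F (Cfsg.quadFormOdd 3 F) := pomegaEquiv.trans
    (FieldIso.pomegaCongr ρ ⇑Q (Cfsg.quadFormOdd 3 F) fun v => by
      rw [Cfsg.Agent.Classical.OrthElem.coe_oddQ]
      simp [Cfsg.quadFormOdd, map_sum])
  have hker : ∀ {Γ : Type u} [Group Γ] {A : Type u} {B : Type} [Group A] [Group B] (σ : Γ →* A)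
      (f : A ≃* B), (f.toMonoidHom.comp σ).ker = σ.ker := fun σ f => by
    ext x; simp [MonoidHom.mem_ker]
  obtain ⟨⟨hs1, hs2, hs3⟩, ⟨f⟩⟩ := exists_stem gen_generates
  let w : ULift.{u} cover ≃* cover := MulEquiv.ulift
  let τ : ULift.{u} cover →* Cfsg.POmega F (Cfsg.quadFormOdd 3 F) :=
    e.toMonoidHom.comp (proj.comp w.toMonoidHom)
  have hmem : ∀ x, x ∈ τ.ker ↔ w x ∈ proj.ker := fun x => by
    rw [MonoidHom.mem_ker, MonoidHom.mem_ker]
    exact e.map_eq_one_iff
  have hτker : τ.ker = proj.ker.comap w.toMonoidHom := Subgroup.ext hmem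
  refine ⟨⟨ULift.{u} cover, inferInstance, inferInstance, τ, ⟨?_, ?_, ?_⟩,
    ⟨(MulEquiv.subgroupCongr hτker).trans ((w.subgroupMap _).trans
      ((MulEquiv.subgroupCongr (Subgroup.map_comap_eq_self_of_surjective w.surjective _)).trans f))⟩⟩,
    fun Δ _ _ τ' hτ => ?_⟩
  · exact e.surjective.comp (hs1.comp w.surjective)
  · intro x hx
    rw [Subgroup.mem_center_iff]
    intro y
    refine w.injective ?_
    rw [map_mul, map_mul]
    exact Subgroup.mem_center_iff.mp (hs2 ((hmem x).mp hx)) _
  · intro x hx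
    have h1 : w x ∈ commutator cover := hs3 ((hmem x).mp hx)
    rw [commutator_def, ← Subgroup.map_top_of_surjective w.toMonoidHom w.surjective,
      ← Subgroup.map_commutator, ← commutator_def] at h1
    obtain ⟨x', hx', he⟩ := h1
    rwa [w.injective he] at hx'
  · obtain ⟨π, hπ⟩ := kernel_bound (e.symm.toMonoidHom.comp τ')
      ⟨e.symm.surjective.comp hτ.1, (hker τ' e.symm).symm ▸ hτ.2⟩
    exact ⟨(MulEquiv.subgroupCongr (hker τ' e.symm)).toMonoidHom.comp π,
      (MulEquiv.subgroupCongr (hker τ' e.symm)).surjective.comp hπ⟩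

end Cfsg.Agent.OrthMult.SevenThree
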