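import Cfsg.Agent.StemCert.Count
import Cfsg.Agent.StemCert.MultiPacked
import Cfsg.Agent.StemCert.Stream
import Cfsg.Agent.OrthMult.SevenThreeChecks.Shape
import Cfsg.Agent.OrthMult.SevenThreeChecks.RelA
import Cfsg.Agent.OrthMult.SevenThreeChecks.RelB
import Cfsg.Agent.OrthMult.SevenThreeChecks.PvA
import Cfsg.Agent.OrthMult.SevenThreeChecks.PvB
import Cfsg.Agent.OrthMult.SevenThreeChecks.EntA
import Cfsg.Agent.OrthMult.SevenThreeChecks.EntB
import Cfsg.Agent.OrthMult.SevenThreeChecks.EntC
import Cfsg.Agent.OrthMult.SevenThreeChecks.Rows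

/-! The multiplier certificate of the seven-dimensional orthogonal group over three elements is valid. -/

set_option autoImplicit false
set_option maxHeartbeats 2000000
set_option maxRecDepth 100000

namespace Cfsg.Agent.OrthMult.SevenThree

open Cfsg.Agent.Compute Cfsg.Agent.StemCert

theorem rel_ok : allBelow cert.nRel cert.relOK = true := by
  have hn : cert.nRel = 121 := rfl
  rw [hn, allBelow_eq_true]
  intro n hn
  rcases Nat.lt_or_ge n 60 with h | h
  · exact allFrom_spec rel_low (Nat.zero_le n) (by omega)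
  · exact allFrom_spec rel_high h (by omega)

/-- A property of all generators of a level. -/
theorem allB_of_forall {f : ℕ → Bool} : ∀ l : List ℕ, (∀ x ∈ l, f x = true) → allB f l = true
  | [], _ => rfl
  | a :: l, h => by
    show (f a && allB f l) = true
    rw [h a (by simp), allB_of_forall l fun x hx => h x (List.mem_cons_of_mem _ hx)]
    rfl

theorem lv0_gens : (lvAt cert.D 0).gens = [0, 1, 2, 3, 4, 5, 6] := rfl

theorem lv0_size : (lvAt cert.D 0).size = 351 := rfl

theorem pv0_ok : cert.pvOK pvs 0 = true := allB_of_forall _ fun s hs => by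
  rw [lv0_gens] at hs
  simp only [List.mem_cons, List.not_mem_nil, or_false] at hs
  rcases hs with rfl | rfl | rfl | rfl | rfl | rfl | rfl
  exacts [pvc0_0, pvc0_1, pvc0_2, pvc0_3, pvc0_4, pvc0_5, pvc0_6]

theorem lv1_gens : (lvAt cert.D 1).gens = [0, 1, 2, 3, 4, 5] := rfl

theorem lv1_size : (lvAt cert.D 1).size = 224 := rfl

theorem pv1_ok : cert.pvOK pvs 1 = true := allB_of_forall _ fun s hs => by
  rw [lv1_gens] at hs
  simp only [List.mem_cons, List.not_mem_nil, or_false] at hs
  rcases hs with rfl | rfl | rfl | rfl | rfl | rfl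
  exacts [pvc1_0, pvc1_1, pvc1_2, pvc1_3, pvc1_4, pvc1_5]

theorem lv2_gens : (lvAt cert.D 2).gens = [0, 1, 2, 3, 4] := rfl

theorem lv2_size : (lvAt cert.D 2).size = 81 := rfl

theorem pv2_ok : cert.pvOK pvs 2 = true := allB_of_forall _ fun s hs => by
  rw [lv2_gens] at hs
  simp only [List.mem_cons, List.not_mem_nil, or_false] at hs
  rcases hs with rfl | rfl | rfl | rfl | rfl
  exacts [pvc2_0, pvc2_1, pvc2_2, pvc2_3, pvc2_4]

theorem lv3_gens : (lvAt cert.D 3).gens = [0, 1, 2, 3] := rfl

theorem lv3_size : (lvAt cert.D 3).size = 30 := rfl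

theorem pv3_ok : cert.pvOK pvs 3 = true := allB_of_forall _ fun s hs => by
  rw [lv3_gens] at hs
  simp only [List.mem_cons, List.not_mem_nil, or_false] at hs
  rcases hs with rfl | rfl | rfl | rfl
  exacts [pvc3_0, pvc3_1, pvc3_2, pvc3_3]

theorem lv4_gens : (lvAt cert.D 4).gens = [0, 1, 2] := rfl

theorem lv4_size : (lvAt cert.D 4).size = 6 := rfl

theorem pv4_ok : cert.pvOK pvs 4 = true := allB_of_forall _ fun s hs => by
  rw [lv4_gens] at hs
  simp only [List.mem_cons, List.not_mem_nil, or_false] at hs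
  rcases hs with rfl | rfl | rfl
  exacts [pvc4_0, pvc4_1, pvc4_2]

theorem lv5_gens : (lvAt cert.D 5).gens = [0, 1] := rfl

theorem lv5_size : (lvAt cert.D 5).size = 4 := rfl

theorem pv5_ok : cert.pvOK pvs 5 = true := allB_of_forall _ fun s hs => by
  rw [lv5_gens] at hs
  simp only [List.mem_cons, List.not_mem_nil, or_false] at hs
  rcases hs with rfl | rfl
  exacts [pvc5_0, pvc5_1]

theorem pvs_ok : ∀ i < cert.D.length, cert.pvOK pvs i = true := fun i hi => by
  rw [shape_ok.1] at hi
  interval_cases i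
  exacts [pv0_ok, pv1_ok, pv2_ok, pv3_ok, pv4_ok, pv5_ok]

theorem lv0_ok : cert.lvOK 0 = true := by
  refine lvOK_of_entM cert (by rw [shape_ok.2.1]; norm_num) hw_ok small_ok wf_ok rel_ok pvs_ok
    (by rw [shape_ok.1]; norm_num) fun s hs j hj => ?_
  rw [lv0_gens] at hs
  rw [lv0_size] at hj
  simp only [List.mem_cons, List.not_mem_nil, or_false] at hs
  rcases hs with rfl | rfl | rfl | rfl | rfl | rfl | rfl
  · exact allFrom_spec ent0_0 (Nat.zero_le j) (by omega)
  · exact allFrom_spec ent0_1 (Nat.zero_le j) (by omega)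
  · exact allFrom_spec ent0_2 (Nat.zero_le j) (by omega)
  · exact allFrom_spec ent0_3 (Nat.zero_le j) (by omega)
  · exact allFrom_spec ent0_4 (Nat.zero_le j) (by omega)
  · exact allFrom_spec ent0_5 (Nat.zero_le j) (by omega)
  · exact allFrom_spec ent0_6 (Nat.zero_le j) (by omega)

theorem lv1_ok : cert.lvOK 1 = true := by
  refine lvOK_of_entM cert (by rw [shape_ok.2.1]; norm_num) hw_ok small_ok wf_ok rel_ok pvs_ok
    (by rw [shape_ok.1]; norm_num) fun s hs j hj => ?_
  rw [lv1_gens] at hs
  rw [lv1_size] at hj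
  simp only [List.mem_cons, List.not_mem_nil, or_false] at hs
  rcases hs with rfl | rfl | rfl | rfl | rfl | rfl
  · exact allFrom_spec ent1_0 (Nat.zero_le j) (by omega)
  · exact allFrom_spec ent1_1 (Nat.zero_le j) (by omega)
  · exact allFrom_spec ent1_2 (Nat.zero_le j) (by omega)
  · exact allFrom_spec ent1_3 (Nat.zero_le j) (by omega)
  · exact allFrom_spec ent1_4 (Nat.zero_le j) (by omega)
  · exact allFrom_spec ent1_5 (Nat.zero_le j) (by omega)

theorem lv2_ok : cert.lvOK 2 = true := by
  refine lvOK_of_entM cert (by rw [shape_ok.2.1]; norm_num) hw_ok small_ok wf_ok rel_ok pvs_ok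
    (by rw [shape_ok.1]; norm_num) fun s hs j hj => ?_
  rw [lv2_gens] at hs
  rw [lv2_size] at hj
  simp only [List.mem_cons, List.not_mem_nil, or_false] at hs
  rcases hs with rfl | rfl | rfl | rfl | rfl
  · exact allFrom_spec ent2_0 (Nat.zero_le j) (by omega)
  · exact allFrom_spec ent2_1 (Nat.zero_le j) (by omega)
  · exact allFrom_spec ent2_2 (Nat.zero_le j) (by omega)
  · exact allFrom_spec ent2_3 (Nat.zero_le j) (by omega)
  · exact allFrom_spec ent2_4 (Nat.zero_le j) (by omega)

theorem lv3_ok : cert.lvOK 3 = true := by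
  refine lvOK_of_entM cert (by rw [shape_ok.2.1]; norm_num) hw_ok small_ok wf_ok rel_ok pvs_ok
    (by rw [shape_ok.1]; norm_num) fun s hs j hj => ?_
  rw [lv3_gens] at hs
  rw [lv3_size] at hj
  simp only [List.mem_cons, List.not_mem_nil, or_false] at hs
  rcases hs with rfl | rfl | rfl | rfl
  · exact allFrom_spec ent3_0 (Nat.zero_le j) (by omega)
  · exact allFrom_spec ent3_1 (Nat.zero_le j) (by omega)
  · exact allFrom_spec ent3_2 (Nat.zero_le j) (by omega)
  · exact allFrom_spec ent3_3 (Nat.zero_le j) (by omega)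

theorem lv4_ok : cert.lvOK 4 = true := by
  refine lvOK_of_entM cert (by rw [shape_ok.2.1]; norm_num) hw_ok small_ok wf_ok rel_ok pvs_ok
    (by rw [shape_ok.1]; norm_num) fun s hs j hj => ?_
  rw [lv4_gens] at hs
  rw [lv4_size] at hj
  simp only [List.mem_cons, List.not_mem_nil, or_false] at hs
  rcases hs with rfl | rfl | rfl
  · exact allFrom_spec ent4_0 (Nat.zero_le j) (by omega)
  · exact allFrom_spec ent4_1 (Nat.zero_le j) (by omega)
  · exact allFrom_spec ent4_2 (Nat.zero_le j) (by omega)

theorem lv5_ok : cert.lvOK 5 = true := by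
  refine lvOK_of_entM cert (by rw [shape_ok.2.1]; norm_num) hw_ok small_ok wf_ok rel_ok pvs_ok
    (by rw [shape_ok.1]; norm_num) fun s hs j hj => ?_
  rw [lv5_gens] at hs
  rw [lv5_size] at hj
  simp only [List.mem_cons, List.not_mem_nil, or_false] at hs
  rcases hs with rfl | rfl
  · exact allFrom_spec ent5_0 (Nat.zero_le j) (by omega)
  · exact allFrom_spec ent5_1 (Nat.zero_le j) (by omega)

theorem table_ok : allBelow 6 (cert.tableAt 9 codes base) = true := allBelow_eq_true.mpr fun i hi => by
  interval_cases i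
  exacts [table_0, table_1, table_2, table_3, table_4, table_5]

theorem bound_spec : 0 < cert.md ∧ pcongL cert.md cert.dim rowVals multi.rowVals = true ∧
    2 * cert.md < fieldMod := by
  obtain ⟨h1, h2, -, -, h5, -⟩ := Multi.boundP_spec cert multi bound_ok
  exact ⟨h1, h2, h5⟩

theorem checked : multi.Checked cert 7 where
  wf := wf_ok
  top := top_ok
  rel := rel_ok
  pow := pow_ok
  comm := commData_ok
  lv := fun i hi => by
    rw [shape_ok.1] at hi
    interval_cases i
    exacts [lv0_ok, lv1_ok, lv2_ok, lv3_ok, lv4_ok, lv5_ok]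
  row := row_ok
  rows := rowsV_of_rowsP cert bound_spec.1 bound_spec.2.2 pvs_ok cert.rows rowVals multi.rowVals
    rowsP_ok bound_spec.2.1
  len := rfl
  basis := allBelow_eq_true.mpr fun j hj =>
    Multi.basisOK_of_basisP cert multi bound_ok (allBelow_eq_true.mp basis_ok j hj)
  order := allBelow_eq_true.mpr fun j hj =>
    Multi.ordOK_of_ordP cert multi bound_ok (allBelow_eq_true.mp order_ok j hj)

end Cfsg.Agent.OrthMult.SevenThree
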