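import Cfsg.Agent.OrthMult.SevenThreeGroup
import Cfsg.Agent.StemCert.CyclicSheets

/-! Checks on the three sheets over the 378 points of norm one. -/

set_option autoImplicit false
set_option maxHeartbeats 0
set_option maxRecDepth 100000

namespace Cfsg.Agent.OrthMult.SevenThree

open Cfsg.Agent.Compute Cfsg.Agent.StemCert Cfsg.Agent.StemCert.CyclicSheets

/-- The weight of a pair of sheet points, 3 for unrelated points. -/
noncomputable def wt (x y : ℕ) : ℕ :=
  let v := getField 2 (wtRows.get 0 (Nat.div x 3)) (Nat.div y 3)
  cond (Nat.beq v 3) 3 (Nat.mod (Nat.add v (Nat.add (Nat.mul 2 (Nat.mod x 3)) (Nat.mod y 3))) 3)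

/-- The weight of a related pair of points is kept by a lift. -/
noncomputable def wtKept (g : ℕ) : Bool :=
  allBelow 378 fun b => forceN (getField 11 g b) fun X => forceN (wtRows.get 0 b) fun row =>
    allBelow 378 fun c => Nat.beq (getField 2 row c) 3 ||
      Nat.beq (wt X (getField 11 g c)) (getField 2 row c)

/-- The code of a product of commutators of lifts. -/
noncomputable def commCode (l : List (ℕ × ℕ)) : ℕ :=
  List.rec (motive := fun _ => ℕ) (cId 11 3 378)
    (fun p _ r => cMul 11 3 378
      (cMul 11 3 378 (cMul 11 3 378 (cMul 11 3 378 (lifts.getD p.1 0) (lifts.getD p.2 0))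
        (liftInvs.getD p.1 0)) (liftInvs.getD p.2 0)) r) l

theorem lifts_ok : allBelow 7 (fun s => cOkB 11 3 378 (lifts.getD s 0) &&
    cOkB 11 3 378 (liftInvs.getD s 0) &&
    Nat.beq (cMul 11 3 378 (liftInvs.getD s 0) (lifts.getD s 0)) (cId 11 3 378) &&
    allBelow 378 (fun b => Nat.beq (Nat.div (getField 11 (lifts.getD s 0) b) 3)
      (getField 9 posOne (rApp (rflWords.getD s []) (getField 12 ptsOne b))))) = true := by
  decide +kernel

theorem kept0 : wtKept (lifts.getD 0 0) = true := by decide +kernel
theorem kept1 : wtKept (lifts.getD 1 0) = true := by decide +kernel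
theorem kept2 : wtKept (lifts.getD 2 0) = true := by decide +kernel
theorem kept3 : wtKept (lifts.getD 3 0) = true := by decide +kernel
theorem kept4 : wtKept (lifts.getD 4 0) = true := by decide +kernel
theorem kept5 : wtKept (lifts.getD 5 0) = true := by decide +kernel
theorem kept6 : wtKept (lifts.getD 6 0) = true := by decide +kernel

theorem mid_ok : allBelow 378 (fun c => Nat.blt (getField 9 midCode c) 378 &&
    !Nat.beq (getField 2 (wtRows.get 0 0) (getField 9 midCode c)) 3 &&
    !Nat.beq (getField 2 (wtRows.get 0 (getField 9 midCode c)) c) 3) = true := by decide +kernel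

theorem shift_ok : (allB (fun p => Nat.blt p.1 7 && Nat.blt p.2 7) shiftPairs &&
    !Nat.beq (cAct 11 3 (commCode shiftPairs) 0) 0 &&
    allBelow 378 fun b => Nat.beq (Nat.div (getField 11 (commCode shiftPairs) b) 3) b) = true := by
  decide +kernel

theorem moved : (!allBelow 378 fun p =>
    Nat.beq (getField 9 posOne (rApp (rflWords.getD 0 []) (getField 12 ptsOne p))) p) = true := by
  decide +kernel

end Cfsg.Agent.OrthMult.SevenThree
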