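import Cfsg.Agent.Classical.OrthElem.Std
import Cfsg.Agent.Classical.OrthGen
import Cfsg.Prelude.Def_Classical

/-!
The spin module of the seven-dimensional orthogonal group over three elements: eight by eight
matrices with the Clifford relations, intertwining a pair of reflections.
-/

set_option autoImplicit false
set_option maxHeartbeats 2000000

namespace Cfsg.Agent.OrthMult.SpinSeven

open Cfsg Cfsg.Agent.Classical.Quad QuadraticMap Matrix

/-- The space. -/
abbrev V : Type := Unit ⊕ (Fin 3 ⊕ Fin 3) → ZMod 3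

/-- The quadratic form. -/
noncomputable abbrev Q : QuadraticForm (ZMod 3) V := Cfsg.Agent.Classical.OrthElem.oddQ (ZMod 3) 3

/-- The Clifford matrix of a vector. -/
def gam (v : V) : Matrix (Fin 8) (Fin 8) (ZMod 3) :=
  !![v (.inl ()), v (.inr (.inr 0)), v (.inr (.inr 1)), 0, v (.inr (.inr 2)), 0, 0, 0;
    v (.inr (.inl 0)), -v (.inl ()), 0, -v (.inr (.inr 1)), 0, -v (.inr (.inr 2)), 0, 0;
    v (.inr (.inl 1)), 0, -v (.inl ()), v (.inr (.inr 0)), 0, 0, -v (.inr (.inr 2)), 0;
    0, -v (.inr (.inl 1)), v (.inr (.inl 0)), v (.inl ()), 0, 0, 0, v (.inr (.inr 2));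
    v (.inr (.inl 2)), 0, 0, 0, -v (.inl ()), v (.inr (.inr 0)), v (.inr (.inr 1)), 0;
    0, -v (.inr (.inl 2)), 0, 0, v (.inr (.inl 0)), v (.inl ()), 0, -v (.inr (.inr 1));
    0, 0, -v (.inr (.inl 2)), 0, v (.inr (.inl 1)), 0, v (.inl ()), v (.inr (.inr 0));
    0, 0, 0, v (.inr (.inl 2)), 0, -v (.inr (.inl 1)), v (.inr (.inl 0)), -v (.inl ())]

theorem gam_mul_self (v : V) : gam v * gam v = Q v • (1 : Matrix (Fin 8) (Fin 8) (ZMod 3)) := by
  rw [Cfsg.Agent.Classical.OrthElem.coe_oddQ, Cfsg.quadFormOdd, Fin.sum_univ_three]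
  ext i j
  fin_cases i <;> fin_cases j <;>
    simp [gam, Matrix.mul_apply, Fin.sum_univ_eight] <;> ring

theorem gam_add (v w : V) : gam (v + w) = gam v + gam w := by
  ext i j
  fin_cases i <;> fin_cases j <;> simp [gam] <;> ring

theorem gam_smul (a : ZMod 3) (v : V) : gam (a • v) = a • gam v := by
  ext i j
  fin_cases i <;> fin_cases j <;> simp [gam]

theorem gam_anticomm (v w : V) :
    gam v * gam w + gam w * gam v = polar Q v w • (1 : Matrix (Fin 8) (Fin 8) (ZMod 3)) := by
  have h := gam_mul_self (v + w)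
  rw [gam_add, Matrix.add_mul, Matrix.mul_add, Matrix.mul_add, gam_mul_self, gam_mul_self] at h
  rw [polar, sub_smul, sub_smul, ← h]
  abel

theorem sq_eq_one : ∀ q : ZMod 3, q ≠ 0 → q * q = 1 := by decide

/-- The intertwining relation of a reflection. -/
theorem gam_refl {u : V} (hu : Q u ≠ 0) (x : V) :
    gam u * gam x = -(gam ((rO hu).1 x) * gam u) := by
  rw [rO_apply, sub_eq_add_neg, ← neg_smul, gam_add, gam_smul, Matrix.add_mul, smul_mul_assoc,
    gam_mul_self, smul_smul, neg_mul, div_mul_cancel₀ _ hu, neg_smul, ← gam_anticomm]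
  abel

/-- The matrix of a nonsingular vector, as a unit. -/
noncomputable def gamU (u : V) (hu : Q u ≠ 0) : (Matrix (Fin 8) (Fin 8) (ZMod 3))ˣ where
  val := gam u
  inv := Q u • gam u
  val_inv := by rw [mul_smul_comm, gam_mul_self, smul_smul, sq_eq_one _ hu, one_smul]
  inv_val := by rw [smul_mul_assoc, gam_mul_self, smul_smul, sq_eq_one _ hu, one_smul]

/-- A matrix intertwines an isometry. -/
def Intertwines (g : oG Q) (M : Matrix (Fin 8) (Fin 8) (ZMod 3)) : Prop :=
  ∀ x : V, M * gam x = gam (g.1 x) * M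

theorem Intertwines.one : Intertwines 1 1 := fun x => by
  show 1 * gam x = gam x * 1
  rw [one_mul, mul_one]

theorem Intertwines.mul {g h : oG Q} {M N : Matrix (Fin 8) (Fin 8) (ZMod 3)}
    (hg : Intertwines g M) (hh : Intertwines h N) : Intertwines (g * h) (M * N) := fun x => by
  rw [mul_assoc, hh x, ← mul_assoc, hg, mul_assoc, oG_mul_apply]

theorem intertwines_pair {u w : V} (hu : Q u ≠ 0) (hw : Q w ≠ 0) :
    Intertwines (rO hu * rO hw) (gam u * gam w) := fun x => by
  rw [mul_assoc, gam_refl hw, mul_neg, ← mul_assoc, gam_refl hu, oG_mul_apply, neg_mul, neg_neg,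
    mul_assoc]

/-- The test vectors. -/
def tv (z a b c d e f : ZMod 3) : V := Sum.elim (fun _ => z) (Sum.elim ![a, b, c] ![d, e, f])

theorem scalar_of_commutes {M : Matrix (Fin 8) (Fin 8) (ZMod 3)}
    (h : ∀ x : V, M * gam x = gam x * M) : M = M 0 0 • (1 : Matrix (Fin 8) (Fin 8) (ZMod 3)) := by
  have e : ∀ x i j, (M * gam x) i j = (gam x * M) i j := fun x i j => by rw [h]
  have p : ∀ x y, M * (gam x * gam y) = gam x * gam y * M := fun x y => by
    rw [← mul_assoc, h, mul_assoc, h, mul_assoc]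
  have d : ∀ x y i j, (M * (gam x * gam y)) i j = (gam x * gam y * M) i j := fun x y i j => by rw [p]
  have two : ∀ a : ZMod 3, a = -a → a = 0 := by decide
  have off0 : ∀ i j : Fin 8, Nat.testBit i 0 ≠ Nat.testBit j 0 → M i j = 0 := by
    intro i j hij
    have := d (tv 0 1 0 0 1 0 0) (tv 0 1 0 0 (-1) 0 0) i j
    apply two
    fin_cases i <;> fin_cases j <;> simp [Nat.testBit_eq_decide_div_mod_eq] at hij <;>
      simp [gam, tv, Matrix.mul_apply, Fin.sum_univ_eight] at this ⊢ <;>
      first | exact this | exact this.symm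
  have off1 : ∀ i j : Fin 8, Nat.testBit i 1 ≠ Nat.testBit j 1 → M i j = 0 := by
    intro i j hij
    have := d (tv 0 0 1 0 0 1 0) (tv 0 0 1 0 0 (-1) 0) i j
    apply two
    fin_cases i <;> fin_cases j <;> simp [Nat.testBit_eq_decide_div_mod_eq] at hij <;>
      simp [gam, tv, Matrix.mul_apply, Fin.sum_univ_eight] at this ⊢ <;>
      first | exact this | exact this.symm
  have off2 : ∀ i j : Fin 8, Nat.testBit i 2 ≠ Nat.testBit j 2 → M i j = 0 := by
    intro i j hij
    have := d (tv 0 0 0 1 0 0 1) (tv 0 0 0 1 0 0 (-1)) i j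
    apply two
    fin_cases i <;> fin_cases j <;> simp [Nat.testBit_eq_decide_div_mod_eq] at hij <;>
      simp [gam, tv, Matrix.mul_apply, Fin.sum_univ_eight] at this ⊢ <;>
      first | exact this | exact this.symm
  have dg1 : M 1 1 = M 0 0 := by
    have := e (tv 0 1 0 0 0 0 0) 1 0
    simp [gam, tv, Matrix.mul_apply, Fin.sum_univ_eight] at this ⊢
    exact this
  have dg2 : M 2 2 = M 0 0 := by
    have := e (tv 0 0 1 0 0 0 0) 2 0
    simp [gam, tv, Matrix.mul_apply, Fin.sum_univ_eight] at this ⊢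
    exact this
  have dg3 : M 3 3 = M 2 2 := by
    have := e (tv 0 1 0 0 0 0 0) 3 2
    simp [gam, tv, Matrix.mul_apply, Fin.sum_univ_eight] at this ⊢
    exact this
  have dg4 : M 4 4 = M 0 0 := by
    have := e (tv 0 0 0 1 0 0 0) 4 0
    simp [gam, tv, Matrix.mul_apply, Fin.sum_univ_eight] at this ⊢
    exact this
  have dg5 : M 5 5 = M 4 4 := by
    have := e (tv 0 1 0 0 0 0 0) 5 4
    simp [gam, tv, Matrix.mul_apply, Fin.sum_univ_eight] at this ⊢
    exact this
  have dg6 : M 6 6 = M 4 4 := by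
    have := e (tv 0 0 1 0 0 0 0) 6 4
    simp [gam, tv, Matrix.mul_apply, Fin.sum_univ_eight] at this ⊢
    exact this
  have dg7 : M 7 7 = M 6 6 := by
    have := e (tv 0 1 0 0 0 0 0) 7 6
    simp [gam, tv, Matrix.mul_apply, Fin.sum_univ_eight] at this ⊢
    exact this
  ext i j
  by_cases hij : i = j
  · subst hij
    rw [Matrix.smul_apply, Matrix.one_apply_eq, smul_eq_mul, mul_one]
    fin_cases i <;> simp [dg1, dg2, dg3, dg4, dg5, dg6, dg7]
  · rw [Matrix.smul_apply, Matrix.one_apply_ne hij, smul_zero]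
    have hb : ∃ k : Fin 3, Nat.testBit i k ≠ Nat.testBit j k := by
      revert hij; revert i j; decide
    obtain ⟨k, hk⟩ := hb
    fin_cases k
    exacts [off0 i j hk, off1 i j hk, off2 i j hk]

end Cfsg.Agent.OrthMult.SpinSeven
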