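import Cfsg.Agent.OrthMult.SevenThreeCoverData
import Cfsg.Agent.OrthMult.SpinSeven
import Cfsg.Agent.Compute.Perm
import Cfsg.Agent.StemCert.Count
import Cfsg.Agent.Classical.OrthPOmega
import Cfsg.Agent.S0292

/-!
The seven-dimensional orthogonal group over three elements: vectors as codes, the actions on the 351
points of norm two and the 378 points of norm one, and seven generators.
-/

set_option autoImplicit false
set_option maxHeartbeats 2000000
set_option maxRecDepth 100000

namespace Cfsg.Agent.OrthMult.SevenThree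

open Cfsg Cfsg.Agent.Compute Cfsg.Agent.StemCert Cfsg.Agent.Classical.Quad
  Cfsg.Agent.OrthMult.SpinSeven QuadraticMap Matrix Module

/-- A digit to base three. -/
noncomputable def dig (c i : ℕ) : ℕ := Nat.mod (Nat.div c (Nat.pow 3 i)) 3

/-- A vector code from seven digits. -/
noncomputable def mk7 (f : ℕ → ℕ) : ℕ :=
  Nat.rec (motive := fun _ => ℕ) 0
    (fun i r => Nat.add r (Nat.mul (Nat.mod (f i) 3) (Nat.pow 3 i))) 7

/-- The quadratic form on codes. -/
noncomputable def qC (c : ℕ) : ℕ :=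
  Nat.mod (Nat.add (Nat.add (Nat.mul (dig c 0) (dig c 0)) (Nat.mul (dig c 1) (dig c 4)))
    (Nat.add (Nat.mul (dig c 2) (dig c 5)) (Nat.mul (dig c 3) (dig c 6)))) 3

/-- The polar form on codes. -/
noncomputable def polC (x v : ℕ) : ℕ :=
  Nat.add (Nat.add (Nat.mul 2 (Nat.mul (dig x 0) (dig v 0)))
      (Nat.add (Nat.mul (dig x 1) (dig v 4)) (Nat.mul (dig x 4) (dig v 1))))
    (Nat.add (Nat.add (Nat.mul (dig x 2) (dig v 5)) (Nat.mul (dig x 5) (dig v 2)))
      (Nat.add (Nat.mul (dig x 3) (dig v 6)) (Nat.mul (dig x 6) (dig v 3))))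

/-- A reflection on codes. -/
noncomputable def rImg (v x : ℕ) : ℕ :=
  mk7 fun i => Nat.add (dig x i) (Nat.mul (Nat.mul (Nat.mul 2 (polC x v)) (qC v)) (dig v i))

/-- A product of reflections on codes. -/
noncomputable def rApp (wd : List ℕ) (x : ℕ) : ℕ :=
  List.rec (motive := fun _ => ℕ) x (fun v _ y => rImg v y) wd

/-- The negative of a code. -/
noncomputable def negC (c : ℕ) : ℕ := mk7 fun i => Nat.mul 2 (dig c i)

/-- Pairs of vectors with the same non-zero norm. -/
noncomputable def pairsB : List ℕ → Bool :=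
  fun l => List.rec (motive := fun _ => ℕ → Bool) (fun h => Nat.beq h 0)
    (fun v _ r h => cond (Nat.beq h 0) (!Nat.beq (qC v) 0 && r (qC v)) (Nat.beq (qC v) h && r 0)) l 0

/-- A numbering of the points of norm `qv` by packed tables. -/
noncomputable def tableB (n qv pts pos : ℕ) : Bool :=
  (Nat.blt 0 qv && Nat.blt n 512 && allBelow n fun p =>
      Nat.blt (getField 12 pts p) 2187 && Nat.beq (qC (getField 12 pts p)) qv &&
        Nat.beq (getField 9 pos (getField 12 pts p)) p) &&
    allBelow 2187 fun c => !Nat.beq (qC c) qv ||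
      (Nat.blt (getField 9 pos c) n && Nat.beq (getField 9 pos (negC c)) (getField 9 pos c) &&
        (Nat.beq (getField 12 pts (getField 9 pos c)) c ||
          Nat.beq (negC (getField 12 pts (getField 9 pos c))) c))

theorem two_ok : tableB 351 2 ptsTwo posTwo = true := by decide +kernel

theorem one_ok : tableB 378 1 ptsOne posOne = true := by decide +kernel

theorem words_ok : allBelow 7 (fun s => pairsB (rflWords.getD s [])) = true := by decide +kernel

attribute [local irreducible] rflWords ptsTwo posTwo ptsOne posOne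

/-- The place of a coordinate. -/
def idx : Unit ⊕ (Fin 3 ⊕ Fin 3) → ℕ :=
  Sum.elim (fun _ => 0) (Sum.elim (fun i => 1 + i) (fun i => 4 + i))

/-- The vector of a code. -/
noncomputable def decV (c : ℕ) : V := fun s => (dig c (idx s) : ZMod 3)

theorem idx_lt : ∀ s, idx s < 7 := by decide

theorem idx_surj : ∀ i : Fin 7, ∃ s, idx s = i := by decide

theorem cast_mod (n : ℕ) : ((Nat.mod n 3 : ℕ) : ZMod 3) = (n : ZMod 3) := ZMod.natCast_mod n 3

theorem Q_decV (c : ℕ) : Q (decV c) = (qC c : ZMod 3) := by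
  rw [Cfsg.Agent.Classical.OrthElem.coe_oddQ, Cfsg.quadFormOdd, qC, cast_mod, Fin.sum_univ_three]
  simp only [decV, idx, Sum.elim_inl, Sum.elim_inr, Nat.add_eq, Nat.mul_eq]
  push_cast
  norm_num
  ring

theorem mk7_eq (f : ℕ → ℕ) : mk7 f = f 0 % 3 + f 1 % 3 * 3 + f 2 % 3 * 9 + f 3 % 3 * 27 +
    f 4 % 3 * 81 + f 5 % 3 * 243 + f 6 % 3 * 729 := by
  show 0 + f 0 % 3 * 3 ^ 0 + f 1 % 3 * 3 ^ 1 + f 2 % 3 * 3 ^ 2 + f 3 % 3 * 3 ^ 3 + f 4 % 3 * 3 ^ 4 +
    f 5 % 3 * 3 ^ 5 + f 6 % 3 * 3 ^ 6 = _
  norm_num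

theorem dig_eq (c i : ℕ) : dig c i = c / 3 ^ i % 3 := rfl

theorem dig_lt (c i : ℕ) : dig c i < 3 := Nat.mod_lt _ (by norm_num)

theorem qC_lt (c : ℕ) : qC c < 3 := Nat.mod_lt _ (by norm_num)

theorem dig_mk7 (f : ℕ → ℕ) {i : ℕ} (hi : i < 7) : dig (mk7 f) i = f i % 3 := by
  rw [dig_eq, mk7_eq]
  have h0 := Nat.mod_lt (f 0) (by norm_num : 0 < 3)
  have h1 := Nat.mod_lt (f 1) (by norm_num : 0 < 3)
  have h2 := Nat.mod_lt (f 2) (by norm_num : 0 < 3)
  have h3 := Nat.mod_lt (f 3) (by norm_num : 0 < 3)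
  have h4 := Nat.mod_lt (f 4) (by norm_num : 0 < 3)
  have h5 := Nat.mod_lt (f 5) (by norm_num : 0 < 3)
  have h6 := Nat.mod_lt (f 6) (by norm_num : 0 < 3)
  interval_cases i <;> omega

theorem mk7_lt (f : ℕ → ℕ) : mk7 f < 2187 := by
  rw [mk7_eq]
  omega

theorem decV_mk7 (f : ℕ → ℕ) : decV (mk7 f) = fun s => (f (idx s) : ZMod 3) := by
  funext s
  rw [decV, dig_mk7 f (idx_lt s)]
  exact cast_mod _

theorem decV_neg (c : ℕ) : decV (negC c) = -decV c := by
  rw [negC, decV_mk7]
  funext s
  show ((Nat.mul 2 (dig c (idx s)) : ℕ) : ZMod 3) = -(dig c (idx s) : ZMod 3)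
  rw [Nat.mul_eq, Nat.cast_mul, show ((2 : ℕ) : ZMod 3) = -1 by decide, neg_one_mul]

theorem decV_injOn {a b : ℕ} (ha : a < 2187) (hb : b < 2187) (h : decV a = decV b) : a = b := by
  have e : ∀ i : Fin 7, dig a i = dig b i := fun i => by
    obtain ⟨s, hs⟩ := idx_surj i
    have h' := congrFun h s
    simp only [decV, hs] at h'
    have := congrArg ZMod.val h'
    rwa [ZMod.val_natCast, ZMod.val_natCast, Nat.mod_eq_of_lt (dig_lt _ _),
      Nat.mod_eq_of_lt (dig_lt _ _)] at this
  have e0 := e 0; have e1 := e 1; have e2 := e 2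
  have e3 := e 3; have e4 := e 4; have e5 := e 5; have e6 := e 6
  simp only [dig_eq] at e0 e1 e2 e3 e4 e5 e6
  norm_num at e0 e1 e2 e3 e4 e5 e6
  omega

/-- The code of a vector. -/
noncomputable def encV (v : V) : ℕ :=
  mk7 fun i => if h : i < 7 then (v (Classical.choose (idx_surj ⟨i, h⟩))).val else 0

theorem encV_lt (v : V) : encV v < 2187 := mk7_lt _

theorem idx_inj : ∀ s t, idx s = idx t → s = t := by decide

theorem decV_encV (v : V) : decV (encV v) = v := by
  rw [encV, decV_mk7]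
  funext s
  rw [dif_pos (idx_lt s), ZMod.natCast_zmod_val]
  exact congrArg v (idx_inj _ _ (_root_.Classical.choose_spec (idx_surj ⟨idx s, idx_lt s⟩)))

theorem encV_decV {c : ℕ} (hc : c < 2187) : encV (decV c) = c :=
  decV_injOn (encV_lt _) hc (decV_encV _)

theorem encV_neg {c : ℕ} : encV (-decV c) = negC c := by
  rw [← decV_neg, encV_decV (show negC c < 2187 from mk7_lt _)]

theorem polar_decV (x v : ℕ) : polar Q (decV x) (decV v) = (polC x v : ZMod 3) := by
  simp only [polar, Cfsg.Agent.Classical.OrthElem.coe_oddQ, Cfsg.quadFormOdd, Fin.sum_univ_three,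
    decV, idx, Sum.elim_inl, Sum.elim_inr, Pi.add_apply, polC, Nat.add_eq, Nat.mul_eq]
  push_cast
  norm_num
  ring

theorem nondeg : (polarBilin Q).Nondegenerate :=
  (Cfsg.Agent.Classical.OrthElem.oddQ_facts (by decide) 3).1

theorem five_le : 5 ≤ finrank (ZMod 3) V := by simp

theorem center_bot : Subgroup.center (Cfsg.Omega (ZMod 3) ⇑Q) = ⊥ := by
  refine Subgroup.eq_bot_of_card_eq _ ((card_center_omega nondeg five_le).2 (Or.inl ?_))
  rintro ⟨g, hg, hg1⟩
  let d : Cfsg.isometryGroup (ZMod 3) ⇑Q →* (ZMod 3)ˣ :=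
    Matrix.GeneralLinearGroup.det.comp (Subgroup.subtype _)
  have h1 : d g = 1 := MonoidHom.mem_ker.mp (Abelianization.commutator_subset_ker d hg)
  have h2 := congrArg Units.val h1
  simp only [d, MonoidHom.comp_apply, Subgroup.coe_subtype, Matrix.GeneralLinearGroup.val_det_apply,
    Units.val_one, hg1, Matrix.det_neg, Matrix.det_one, mul_one] at h2
  revert h2
  norm_num
  decide

theorem center_eo : Subgroup.center (eo Q) = ⊥ := by
  rw [← map_center_omega nondeg five_le, center_bot, Subgroup.map_bot]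

/-- The group as the projective group. -/
noncomputable def pomegaEquiv : eo Q ≃* Cfsg.POmega (ZMod 3) ⇑Q :=
  (omegaEquiv nondeg five_le).symm.trans
    (QuotientGroup.quotientBot.symm.trans (QuotientGroup.quotientMulEquivOfEq center_bot.symm))

theorem card_group : Nat.card (eo Q) = 4585351680 := by
  rw [Nat.card_congr pomegaEquiv.toEquiv, Cfsg.Agent.Classical.OrthElem.coe_oddQ]
  have h := Cfsg.Agent.S0292.result (F := ZMod 3) (ZMod.card 3) (by decide) 3 le_rfl
  simp only [Finset.prod_range_succ, Finset.prod_range_zero] at h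
  norm_num at h
  omega

instance finite_eo : Finite (eo Q) := Nat.finite_of_card_ne_zero (by rw [card_group]; norm_num)

theorem simple_eo : IsSimpleGroup (eo Q) := by
  have := isSimpleGroup_pomega (Q := Q) nondeg five_le
  exact MulEquiv.isSimpleGroup pomegaEquiv

/-- A homomorphism out of the group not killing everything is injective. -/
theorem injective_of_ne {H : Type*} [Group H] (f : eo Q →* H) {g : eo Q} (hg : f g ≠ 1) :
    Function.Injective f := by
  have := simple_eo
  rcases this.eq_bot_or_eq_top_of_normal f.ker inferInstance with h | h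
  · exact (MonoidHom.ker_eq_bot_iff f).mp h
  · exact absurd (MonoidHom.mem_ker.mp (h ▸ Subgroup.mem_top g)) hg

section Table

variable {n qv pts pos : ℕ} (h : tableB n qv pts pos = true)
include h

theorem table_spec : 0 < qv ∧ (∀ p, p < n → getField 12 pts p < 2187 ∧ qC (getField 12 pts p) = qv ∧
      getField 9 pos (getField 12 pts p) = p) ∧
    ∀ c, c < 2187 → qC c = qv → getField 9 pos c < n ∧
      getField 9 pos (negC c) = getField 9 pos c ∧
      (getField 12 pts (getField 9 pos c) = c ∨ negC (getField 12 pts (getField 9 pos c)) = c) := by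
  simp only [tableB, Bool.and_eq_true, allBelow_eq_true, Nat.blt_eq, Nat.beq_eq, Bool.or_eq_true,
    Bool.not_eq_true', ← Bool.not_eq_true] at h
  refine ⟨h.1.1.1, fun p hp => ?_, fun c hc hq => ?_⟩
  · obtain ⟨⟨a, b⟩, c⟩ := h.1.2 p hp
    exact ⟨a, b, c⟩
  · rcases h.2 c hc with e | ⟨⟨a, b⟩, c⟩
    · exact absurd hq e
    · exact ⟨a, b, c⟩

theorem qC_enc_pt (g : oG Q) (p : Fin n) : qC (encV (g.1 (decV (getField 12 pts p)))) = qv := by
  obtain ⟨-, hp, -⟩ := table_spec h
  have e : (qC (encV (g.1 (decV (getField 12 pts p)))) : ZMod 3) = (qv : ZMod 3) := by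
    rw [← Q_decV, decV_encV, g.2, Q_decV, (hp p p.2).2.1]
  have := congrArg ZMod.val e
  rw [ZMod.val_natCast, ZMod.val_natCast, Nat.mod_eq_of_lt (qC_lt _)] at this
  rw [this, Nat.mod_eq_of_lt ((hp p p.2).2.1 ▸ qC_lt _)]

/-- The action on a point. -/
noncomputable def pImg (g : oG Q) (p : Fin n) : Fin n :=
  ⟨getField 9 pos (encV (g.1 (decV (getField 12 pts p)))),
    ((table_spec h).2.2 _ (encV_lt _) (qC_enc_pt h g p)).1⟩

theorem pImg_one (p : Fin n) : pImg h 1 p = p := by
  obtain ⟨-, hp, -⟩ := table_spec h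
  refine Fin.ext ?_
  show getField 9 pos (encV ((1 : oG Q).1 (decV _))) = p
  rw [oG_one_apply, encV_decV (hp p p.2).1, (hp p p.2).2.2]

theorem pImg_mul (g k : oG Q) (p : Fin n) : pImg h (g * k) p = pImg h g (pImg h k p) := by
  obtain ⟨-, -, hpos⟩ := table_spec h
  refine Fin.ext ?_
  show getField 9 pos (encV ((g * k).1 _)) = getField 9 pos (encV (g.1 (decV (getField 12 pts
    (getField 9 pos (encV (k.1 (decV (getField 12 pts p)))))))))
  rw [oG_mul_apply]
  generalize hy : k.1 (decV (getField 12 pts p)) = y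
  have hq : qC (encV y) = qv := hy ▸ qC_enc_pt h k p
  obtain ⟨-, -, hpt⟩ := hpos _ (encV_lt y) hq
  rcases hpt with e | e
  · rw [e, decV_encV]
  · have ey : y = -decV (getField 12 pts (getField 9 pos (encV y))) := by
      rw [← decV_neg, e, decV_encV]
    conv_lhs => rw [ey, map_neg]
    obtain ⟨c, hc⟩ : ∃ c, decV c = g.1 (decV (getField 12 pts (getField 9 pos (encV y)))) :=
      ⟨_, decV_encV _⟩
    rw [← hc, encV_neg]
    by_cases hc' : c < 2187
    · rw [encV_decV hc']
      refine (hpos c hc' ?_).2.1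
      have := qC_enc_pt h g ⟨_, (hpos _ (encV_lt y) hq).1⟩
      rwa [← hc, encV_decV hc'] at this
    · have hd : decV (encV (decV c)) = decV c := decV_encV _
      have e2 : negC c = negC (encV (decV c)) := by
        rw [← encV_neg, ← encV_neg, hd]
      rw [e2]
      refine (hpos _ (encV_lt _) ?_).2.1
      have := qC_enc_pt h g ⟨_, (hpos _ (encV_lt y) hq).1⟩
      rwa [← hc] at this

/-- The action of the orthogonal group on a numbered set of points. -/
noncomputable def pointHom : oG Q →* Equiv.Perm (Fin n) :=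
  MonoidHom.mk' (fun g =>
    { toFun := pImg h g
      invFun := pImg h g⁻¹
      left_inv := fun p => by rw [← pImg_mul h, inv_mul_cancel, pImg_one h]
      right_inv := fun p => by rw [← pImg_mul h, mul_inv_cancel, pImg_one h] })
    (fun g k => Equiv.ext fun p => pImg_mul h g k p)

end Table

/-- The action on the 351 points of norm two. -/
noncomputable def ι : eo Q →* Equiv.Perm (Fin 351) := (pointHom two_ok).comp (eo Q).subtype

/-- The action on the 378 points of norm one. -/
noncomputable def ιOne : eo Q →* Equiv.Perm (Fin 378) := (pointHom one_ok).comp (eo Q).subtype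

/-- A reflection of a code. -/
noncomputable def rvec (v : ℕ) : oG Q := if h : Q (decV v) ≠ 0 then rO h else 1

/-- The spin matrix of a code. -/
noncomputable def gvec (v : ℕ) : (Matrix (Fin 8) (Fin 8) (ZMod 3))ˣ :=
  if h : Q (decV v) ≠ 0 then gamU (decV v) h else 1

theorem Q_decV_ne {v : ℕ} (hv : qC v ≠ 0) : Q (decV v) ≠ 0 := by
  rw [Q_decV]
  intro h
  have := congrArg ZMod.val h
  rw [ZMod.val_natCast, Nat.mod_eq_of_lt (qC_lt v), ZMod.val_zero] at this
  exact hv this

theorem rvec_apply {v : ℕ} (hv : qC v ≠ 0) (x : ℕ) : (rvec v).1 (decV x) = decV (rImg v x) := by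
  have hi : ∀ q : ZMod 3, q ≠ 0 → q⁻¹ = q := fun q hq =>
    inv_eq_of_mul_eq_one_right (sq_eq_one q hq)
  have h3 : (3 : ZMod 3) = 0 := by decide
  rw [rvec, dif_pos (Q_decV_ne hv), rO_apply, polar_decV, div_eq_mul_inv, hi _ (Q_decV_ne hv),
    Q_decV, rImg, decV_mk7]
  funext s
  simp only [Pi.sub_apply, Pi.smul_apply, smul_eq_mul, decV, Nat.add_eq, Nat.mul_eq]
  push_cast
  linear_combination -((polC x v : ZMod 3) * qC v * dig v (idx s)) * h3

theorem pairsB_cons (v w : ℕ) (l : List ℕ) :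
    pairsB (v :: w :: l) = true → qC v ≠ 0 ∧ qC w = qC v ∧ pairsB l = true := by
  intro h
  have h' : (cond (Nat.beq 0 0) (!Nat.beq (qC v) 0 && cond (Nat.beq (qC v) 0)
      (!Nat.beq (qC w) 0 && List.rec (motive := fun _ => ℕ → Bool) (fun h => Nat.beq h 0)
        (fun v _ r h => cond (Nat.beq h 0) (!Nat.beq (qC v) 0 && r (qC v)) (Nat.beq (qC v) h && r 0)) l (qC w))
      (Nat.beq (qC w) (qC v) && pairsB l))
      (Nat.beq (qC v) 0 && false)) = true := h
  rw [show Nat.beq 0 0 = true from rfl, cond_true, Bool.and_eq_true, Bool.not_eq_true',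
    ← Bool.not_eq_true, Nat.beq_eq] at h'
  obtain ⟨hv, h'⟩ := h'
  rw [show Nat.beq (qC v) 0 = false from Bool.eq_false_iff.mpr (by simpa [Nat.beq_eq] using hv),
    cond_false, Bool.and_eq_true, Nat.beq_eq] at h'
  exact ⟨hv, h'.1, h'.2⟩

theorem pairsB_single (v : ℕ) : pairsB [v] = false := by
  show cond (Nat.beq 0 0) (!Nat.beq (qC v) 0 && Nat.beq (qC v) 0) (Nat.beq (qC v) 0 && Nat.beq 0 0) = false
  rw [show Nat.beq 0 0 = true from rfl, cond_true]
  cases Nat.beq (qC v) 0 <;> rfl

theorem evalW_apply : ∀ wd : List ℕ, pairsB wd = true → ∀ x : ℕ,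
    (evalW rvec wd).1 (decV x) = decV (rApp wd x)
  | [], _, x => by simp [evalW, rApp]
  | [v], h, _ => by rw [pairsB_single] at h; cases h
  | v :: w :: wd, h, x => by
    obtain ⟨hv, hw, hl⟩ := pairsB_cons v w wd h
    rw [evalW_cons, evalW_cons, oG_mul_apply, oG_mul_apply, evalW_apply wd hl x,
      rvec_apply (hw ▸ hv), rvec_apply hv]
    rfl

theorem rO_pair_mem {u w : V} (hu : Q u ≠ 0) (hw : Q w ≠ 0) (h : Q u = Q w) :
    rO hu * rO hw ∈ eo Q := by
  have h5 := five_le
  rw [eo_eq_commutator nondeg (by omega) (Or.inr (by omega))]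
  refine rO_mul_mem_commutator nondeg hu hw (t := 1) ?_
  rw [h]
  ring

theorem evalW_mem : ∀ wd : List ℕ, pairsB wd = true → evalW rvec wd ∈ eo Q
  | [], _ => by simp [evalW]
  | [v], h => by rw [pairsB_single] at h; cases h
  | v :: w :: wd, h => by
    obtain ⟨hv, hw, hl⟩ := pairsB_cons v w wd h
    rw [evalW_cons, evalW_cons, ← mul_assoc, rvec, dif_pos (Q_decV_ne hv), rvec,
      dif_pos (Q_decV_ne (hw ▸ hv))]
    exact mul_mem (rO_pair_mem _ _ (by rw [Q_decV, Q_decV, hw])) (evalW_mem wd hl)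

theorem evalW_intertwines : ∀ wd : List ℕ, pairsB wd = true →
    Intertwines (evalW rvec wd) (evalW gvec wd).val
  | [], _ => by simpa [evalW] using Intertwines.one
  | [v], h => by rw [pairsB_single] at h; cases h
  | v :: w :: wd, h => by
    obtain ⟨hv, hw, hl⟩ := pairsB_cons v w wd h
    rw [evalW_cons, evalW_cons, evalW_cons, evalW_cons, ← mul_assoc, ← mul_assoc, Units.val_mul,
      Units.val_mul]
    refine Intertwines.mul ?_ (evalW_intertwines wd hl)
    rw [rvec, dif_pos (Q_decV_ne hv), rvec, dif_pos (Q_decV_ne (hw ▸ hv)), gvec,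
      dif_pos (Q_decV_ne hv), gvec, dif_pos (Q_decV_ne (hw ▸ hv))]
    exact intertwines_pair _ _

/-- The generators. -/
noncomputable def gen (s : ℕ) : eo Q :=
  if h : pairsB (rflWords.getD s []) = true then ⟨evalW rvec (rflWords.getD s []), evalW_mem _ h⟩
  else 1

theorem words_spec {s : ℕ} (hs : s < 7) : pairsB (rflWords.getD s []) = true :=
  allBelow_eq_true.mp words_ok s hs

theorem gen_val {s : ℕ} (hs : s < 7) : (gen s).1 = evalW rvec (rflWords.getD s []) := by
  rw [gen, dif_pos (words_spec hs)]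

theorem pointHom_gen {n qv pts pos : ℕ} (h : tableB n qv pts pos = true) {s : ℕ} (hs : s < 7)
    (p : Fin n) : (pointHom h (gen s).1 p : ℕ) =
      getField 9 pos (rApp (rflWords.getD s []) (getField 12 pts p)) := by
  show getField 9 pos (encV ((gen s).1.1 (decV (getField 12 pts p)))) = _
  rw [gen_val hs, evalW_apply _ (words_spec hs)]
  have hlt : ∀ (wd : List ℕ) (x : ℕ), x < 2187 → rApp wd x < 2187 := fun wd x hx => by
    cases wd with
    | nil => exact hx
    | cons v l => exact (show rImg v (rApp l x) < 2187 from mk7_lt _)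
  rw [encV_decV (hlt _ _ ((table_spec h).2.1 p p.2).1)]

end Cfsg.Agent.OrthMult.SevenThree
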